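import Cfsg.Agent.Lib.Classical.SympBasic

/-!
# Siegel elements of a symplectic group in characteristic two

`sg hA a w c` is `x ↦ x + B(x,w) a + B(x,a) w + c B(x,a) a` for `w ⊥ a`.
-/

set_option autoImplicit false
set_option linter.unusedSectionVars false

open Module

namespace CfsgLib.Classical.SiegelOver

variable {F : Type*} [Field F] [CharP F 2] {V : Type*} [AddCommGroup V] [Module F V]
  {B : V →ₗ[F] V →ₗ[F] F}

theorem two_F : (2 : F) = 0 := CharTwo.two_eq_zero

theorem symm2 (hA : B.IsAlt) (x y : V) : B x y = B y x := by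
  rw [alt_swap hA, CharTwo.neg_eq]

theorem add_self_vec (F : Type*) [Field F] [CharP F 2] [Module F V] (x : V) : x + x = 0 := by
  rw [← two_smul F x, two_F, zero_smul]

theorem vec_eq_of_add_eq_zero (F : Type*) [Field F] [CharP F 2] [Module F V] {x y : V}
    (h : x + y = 0) : x = y := by
  have := congrArg (· + y) h
  simpa [add_assoc, add_self_vec F] using this

/-- The Siegel element as a product of three transvections. -/
def sg (hA : B.IsAlt) (a w : V) (c : F) : isomGroup B :=
  tv hA (a + w) 1 * tv hA a (1 + c) * tv hA w 1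

variable {hA : B.IsAlt} {a w : V}

theorem sg_apply (h : B a w = 0) (c : F) (x : V) :
    (sg hA a w c).1 x = x + B x w • a + B x a • w + (c * B x a) • a := by
  have h' : B w a = 0 := by rw [symm2 hA, h]
  simp only [sg, Subgroup.coe_mul, LinearEquiv.mul_apply, tv_apply, map_add, map_smul,
    LinearMap.add_apply, LinearMap.smul_apply, hA a, hA w, h, h', smul_eq_mul, one_mul, mul_zero,
    add_zero]
  match_scalars <;> ring_nf <;> simp [two_F]

theorem sg_zero_right (a : V) (c : F) : sg hA a (0 : V) c = tv hA a c := by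
  refine Subtype.ext (LinearEquiv.ext fun x => ?_)
  rw [sg_apply (by simp)]
  simp

theorem sg_zero_zero (a : V) : sg hA a (0 : V) (0 : F) = 1 := by rw [sg_zero_right, tv_zero]

theorem sg_mul {w' : V} (h : B a w = 0) (h' : B a w' = 0) (c c' : F) :
    sg hA a w c * sg hA a w' c' = sg hA a (w + w') (c + c' + B w w') := by
  refine Subtype.ext (LinearEquiv.ext fun x => ?_)
  have h1 : B w a = 0 := by rw [symm2 hA, h]
  have h2 : B w' a = 0 := by rw [symm2 hA, h']
  have h3 : B a (w + w') = 0 := by rw [map_add, h, h', add_zero]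
  simp only [Subgroup.coe_mul, LinearEquiv.mul_apply, sg_apply h, sg_apply h', sg_apply h3, map_add,
    map_smul, LinearMap.add_apply, LinearMap.smul_apply, hA a, h, h1, h2, smul_eq_mul,
    symm2 hA w' w]
  match_scalars <;> ring

theorem sg_conj (g : isomGroup B) (a w : V) (c : F) :
    g * sg hA a w c * g⁻¹ = sg hA (g.1 a) (g.1 w) c := by
  simp only [sg, ← map_add, ← conj_tv hA g]
  group

theorem sg_symm (h : B a w = 0) : sg hA a w (0 : F) = sg hA w a 0 := by
  refine Subtype.ext (LinearEquiv.ext fun x => ?_)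
  rw [sg_apply h, sg_apply (by rw [symm2 hA, h])]
  simp [add_assoc, add_comm (B x w • a)]

theorem sg_smul_left (t : F) (h : B a w = 0) (c : F) :
    sg hA (t • a) w c = sg hA a (t • w) (t * t * c) := by
  refine Subtype.ext (LinearEquiv.ext fun x => ?_)
  rw [sg_apply (by simp [h]), sg_apply (by simp [h])]
  simp only [map_smul, smul_eq_mul, smul_smul]
  match_scalars <;> ring

theorem sg_shift (h : B a w = 0) (t c : F) : sg hA a (w + t • a) c = sg hA a w c := by
  refine Subtype.ext (LinearEquiv.ext fun x => ?_)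
  rw [sg_apply (by simp [h, hA a]), sg_apply h]
  simp only [map_add, map_smul, smul_eq_mul]
  match_scalars
  · ring
  · linear_combination t * (B x a) * two_F (F := F)
  · ring

theorem tv_mul_sg (h : B a w = 0) (d c : F) : tv hA a d * sg hA a w c = sg hA a w (d + c) := by
  rw [← sg_zero_right, sg_mul (by simp) h, zero_add]
  simp

theorem sg_inv (h : B a w = 0) (c : F) : (sg hA a w c)⁻¹ = sg hA a w c := by
  rw [inv_eq_iff_mul_eq_one, sg_mul h h, add_self_vec F, hA w, add_zero, CharTwo.add_self_eq_zero,
    sg_zero_zero]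

theorem sg_apply_self (h : B a w = 0) (c : F) : (sg hA a w c).1 a = a := by
  rw [sg_apply h, hA a, h]; simp

theorem sg_apply_partner {b : V} (h : B a w = 0) (hb : B a b = 1) (hw : B b w = 0) (c : F) :
    (sg hA a w c).1 b = b + w + c • a := by
  rw [sg_apply h, symm2 hA b a, hb, hw]; simp

theorem sg_apply_perp {r : V} (h : B a w = 0) (hr : B a r = 0) (c : F) :
    (sg hA a w c).1 r = r + B r w • a := by
  rw [sg_apply h, symm2 hA r a, hr]; simp

theorem sg_mul_swap {r : V} (h : B a r = 0) (t : F) :
    sg hA r (t • a) (0 : F) = sg hA a (t • r) 0 := by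
  rw [sg_symm (a := r) (w := t • a) (by simp [symm2 hA r a, h]), sg_smul_left t h, mul_zero]

theorem tv_add (h : B a w = 0) (c : F) :
    tv hA (w + a) c = tv hA w c * tv hA a c * sg hA a (c • w) 0 := by
  have h' : B w a = 0 := by rw [symm2 hA, h]
  refine Subtype.ext (LinearEquiv.ext fun x => ?_)
  simp only [Subgroup.coe_mul, LinearEquiv.mul_apply, sg_apply (show B a (c • w) = 0 by simp [h]),
    tv_apply, map_add, map_smul, LinearMap.add_apply, LinearMap.smul_apply, hA a, hA w, h, h',
    smul_eq_mul]
  match_scalars <;> ring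

end CfsgLib.Classical.SiegelOver
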