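import Cfsg.Agent.Lib.Classical.SiegelOver.Setting

/-!
# Two perpendicular images of `a`
-/

set_option autoImplicit false
set_option linter.unusedSectionVars false

open Module

namespace CfsgLib.Classical.SiegelOver

variable {F : Type*} [Field F] [CharP F 2] {V : Type*} [AddCommGroup V] [Module F V]
  {B : V →ₗ[F] V →ₗ[F] F} {hA : B.IsAlt} {L : Subgroup (isomGroup B)} {a p r : V}

/-- Two independent perpendicular points. -/
def Edge (L : Subgroup (isomGroup B)) (a p r : V) : Prop :=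
  Orb L a p ∧ Orb L a r ∧ B p r = 0 ∧ ∀ t : F, r ≠ t • p

theorem Edge.symm (S : Setting hA L a) (h : Edge L a p r) : Edge L a r p := by
  obtain ⟨hp, hr, hpr, hi⟩ := h
  refine ⟨hr, hp, by rw [symm2 hA, hpr], fun t e => ?_⟩
  have ht : t ≠ 0 := fun ht => hp.ne_zero S (by rw [e, ht, zero_smul])
  exact hi t⁻¹ (by rw [e, smul_smul, inv_mul_cancel₀ ht, one_smul])

/-- Multiply Siegel elements at the two points of an edge. -/
theorem Edge.prod_mem (h : Edge L a p r) {t c d : F} (hc : sg hA p (t • r) c ∈ L)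
    (hd : sg hA r (t • p) d ∈ L) : tv hA p c * tv hA r d ∈ L := by
  have hrp : B r (t • p) = 0 := by simp [symm2 hA r p, h.2.2.1]
  have e1 : sg hA r (t • p) d = sg hA r (t • p) 0 * tv hA r d := by
    rw [← sg_zero_right (hA := hA) r d, sg_mul hrp (by simp)]; simp
  have e2 : sg hA p (t • r) c * sg hA p (t • r) 0 = tv hA p c := by
    rw [sg_mul (by simp [h.2.2.1]) (by simp [h.2.2.1]), add_self_vec F, hA]
    simp [sg_zero_right]
  have := mul_mem hc hd
  rwa [e1, sg_mul_swap h.2.2.1, ← mul_assoc, e2] at this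

/-- Conjugate by a Siegel element moving the second point. -/
theorem Edge.conj_step (S : Setting hA L a) (h : Edge L a p r) {c d : F}
    (hm : tv hA p c * tv hA r d ∈ L) (β : F) : sg hA p ((β * d) • r) (β * β * d) ∈ L := by
  obtain ⟨hp, hr, hpr, hi⟩ := h
  obtain ⟨v, hv, hrv⟩ := exists_functional S (hp.ne_zero S) hi β
  obtain ⟨e, he⟩ := hp.siegel S hv
  have h1 := conj_mem he hm
  rw [← conj_mul, conj_tv, conj_tv, sg_apply_self hv, sg_apply_perp hv hpr, hrv] at h1
  have h2 := mul_mem (inv_mem hm) h1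
  have hbp : B (β • p) r = 0 := by simp [hpr]
  rw [tv_add hbp, tv_smul, mul_inv_rev, mul_assoc, inv_mul_cancel_left, mul_assoc (tv hA r d),
    inv_mul_cancel_left] at h2
  have hpr' : B p (d • r) = 0 := by simp [hpr]
  rwa [sg_smul_left β hpr', smul_smul, mul_zero, tv_mul_sg (by simp [hpr]), add_zero] at h2

/-- An edge and a transvection give the whole transvection group. -/
theorem Edge.full [Fintype F] (S : Setting hA L a) (h : Edge L a p r) {l : F} (hl : l ≠ 0)
    (hm : tv hA p l ∈ L) (c : F) : tv hA p c ∈ L := by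
  by_cases hF : ∀ e : F, e = 0 ∨ e = 1
  · rcases hF c with rfl | rfl
    · rw [tv_zero]; exact one_mem L
    · rwa [(hF l).resolve_left hl] at hm
  push Not at hF
  obtain ⟨e, he0, he1⟩ := hF
  have h' := h.symm S
  have key : ∀ e : F, ∃ c, tv hA p c * tv hA r e ∈ L := by
    intro e
    obtain ⟨s, hs⟩ := surjective_frobenius F 2 (e * l)
    rw [frobenius_def] at hs
    have hm' : tv hA r 0 * tv hA p l ∈ L := by rwa [tv_zero, one_mul]
    have h1 := h'.conj_step S hm' (s / l)
    rw [div_mul_cancel₀ _ hl, show s / l * (s / l) * l = e by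
      field_simp; linear_combination hs] at h1
    obtain ⟨c, hc⟩ := h.1.siegel S (show B p (s • r) = 0 by simp [h.2.2.1])
    exact ⟨c, h.prod_mem hc h1⟩
  have hne : (1 : F) + e⁻¹ ≠ 0 := by
    intro h0
    rw [CharTwo.add_eq_zero] at h0
    exact he1 (inv_eq_one.1 h0.symm)
  obtain ⟨s, hs⟩ := surjective_frobenius F 2 (c / (1 + e⁻¹))
  rw [frobenius_def] at hs
  obtain ⟨c₁, hc₁⟩ := key 1
  obtain ⟨c₂, hc₂⟩ := key e
  have h1 := h.conj_step S hc₁ s
  have h2 := h.conj_step S hc₂ (s / e)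
  rw [mul_one, mul_one] at h1
  rw [div_mul_cancel₀ _ he0] at h2
  have h3 := mul_mem h1 h2
  rw [sg_mul (by simp [h.2.2.1]) (by simp [h.2.2.1]), add_self_vec F, sg_zero_right, hA] at h3
  convert h3 using 2
  rw [eq_div_iff hne] at hs
  field_simp at hs ⊢
  linear_combination -hs

/-- Perpendicular points in dimension at least six. -/
theorem Edge.siegel_of_big (S : Setting hA L a) (h : Edge L a p r) {v u : V} (hv : B p v = 0)
    (hv' : B r v = 0) (hu : B r u = 0) (hu' : B p u = 0) (huv : B u v ≠ 0) (t : F) :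
    sg hA p (t • r) (0 : F) ∈ L := by
  set u₀ := (t / B u v) • u
  have hu₀ : B r u₀ = 0 := by simp [u₀, hu]
  have hu₀' : B p u₀ = 0 := by simp [u₀, hu']
  obtain ⟨c, hc⟩ := h.1.siegel S hv
  obtain ⟨d, hd⟩ := h.2.1.siegel S hu₀
  have h1 := conj_mem hc hd
  rw [sg_conj, sg_apply_perp hv h.2.2.1, hv', zero_smul, add_zero, sg_apply_perp hv hu₀',
    show B u₀ v = t by simp [u₀, huv]] at h1
  have h2 := mul_mem hd h1
  have hrp : B r p = 0 := by rw [symm2 hA, h.2.2.1]
  rw [sg_mul hu₀ (by simp [hu₀, hrp]), ← add_assoc, add_self_vec F, zero_add] at h2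
  rw [← sg_mul_swap h.2.2.1]
  convert h2 using 2
  simp [hA u₀, symm2 hA u₀ p, hu₀', CharTwo.add_self_eq_zero]

/-- Perpendicular points over a field with more than two elements. -/
theorem Edge.siegel_of_field [Fintype F] (S : Setting hA L a) (hN : NoTv hA L a)
    (hF : ∃ e : F, e ≠ 0 ∧ e ≠ 1) (h : Edge L a p r) (t : F) : sg hA p (t • r) (0 : F) ∈ L := by
  have uniq : ∀ {p r : V}, Edge L a p r → ∀ {s c c' : F}, sg hA p (s • r) c ∈ L →
      sg hA p (s • r) c' ∈ L → c = c' := by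
    intro p r h s c c' h1 h2
    have := mul_mem h1 h2
    rw [sg_mul (by simp [h.2.2.1]) (by simp [h.2.2.1]), add_self_vec F, sg_zero_right, hA,
      add_zero] at this
    exact CharTwo.add_eq_zero.1 (h.1.noTv hN _ this)
  have step : ∀ {p r : V}, Edge L a p r → ∀ {s d : F}, sg hA r (s • p) d ∈ L → ∀ {x c : F},
      sg hA p (x • r) c ∈ L → d ≠ 0 → c * d = x * x := by
    intro p r h s d hd x c hc hd0
    obtain ⟨c', hc'⟩ := h.1.siegel S (show B p (s • r) = 0 by simp [h.2.2.1])
    have := h.conj_step S (h.prod_mem hc' hd) (x / d)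
    rw [div_mul_cancel₀ _ hd0] at this
    rw [uniq h hc this]
    field_simp
  have zero : ∀ {p r : V}, Edge L a p r → ∀ {s d : F}, sg hA r (s • p) d ∈ L → d = 0 := by
    intro p r h s d hd
    by_contra hd0
    obtain ⟨c₁, hc₁⟩ := h.1.siegel S (show B p ((1 : F) • r) = 0 by simp [h.2.2.1])
    have e1 := step h hd hc₁ hd0
    have hc0 : c₁ ≠ 0 := by rintro rfl; simp at e1
    obtain ⟨e, he0, he1⟩ := hF
    have hrp : ∀ x : F, B r (x • p) = 0 := fun x => by simp [symm2 hA r p, h.2.2.1]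
    obtain ⟨d₁, hd₁⟩ := h.2.1.siegel S (hrp 1)
    obtain ⟨d₂, hd₂⟩ := h.2.1.siegel S (hrp e)
    have f1 := step (h.symm S) hc₁ hd₁ hc0
    have f2 := step (h.symm S) hc₁ hd₂ hc0
    have hd2 : d₂ ≠ 0 := by rintro rfl; simp [he0] at f2
    have g1 := step h hd₁ hc₁ (by rintro rfl; simp at f1)
    have g2 := step h hd₂ hc₁ hd2
    have : (e - 1) * (e + 1) = 0 := by linear_combination g2 * 1 - f2 - g1 + f1 - (c₁ * d₂ - c₁ * d₁ - d₂ * c₁ + d₁ * c₁)
    rcases mul_eq_zero.1 this with h0 | h0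
    · exact he1 (sub_eq_zero.1 h0)
    · exact he1 (CharTwo.add_eq_zero.1 h0)
  obtain ⟨c, hc⟩ := h.1.siegel S (show B p (t • r) = 0 by simp [h.2.2.1])
  rwa [zero (h.symm S) hc] at hc

end CfsgLib.Classical.SiegelOver
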