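import Cfsg.Agent.Lib.Classical.SiegelOver.Quadric

/-!
# The invariant quadratic form
-/

set_option autoImplicit false
set_option linter.unusedSectionVars false

open Module

namespace CfsgLib.Classical.SiegelOver

variable {F : Type*} [Field F] [CharP F 2] [Fintype F] {V : Type*} [AddCommGroup V] [Module F V]
  {B : V →ₗ[F] V →ₗ[F] F} {hA : B.IsAlt} {L : Subgroup (isomGroup B)} {a p b w : V}

/-- Projection to the vectors orthogonal to the pair. -/
def mid (B : V →ₗ[F] V →ₗ[F] F) (p b x : V) : V := x + B p x • b + B b x • p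

theorem Pair.mid_left (P : Pair hA L a p b) (x : V) : B p (mid B p b x) = 0 := by
  simp [mid, P.one, hA p, CharTwo.add_self_eq_zero]

theorem Pair.mid_right (P : Pair hA L a p b) (x : V) : B b (mid B p b x) = 0 := by
  simp [mid, P.symm.one, hA b, CharTwo.add_self_eq_zero]

theorem mid_decomp (x : V) : x = B p x • b + mid B p b x + B b x • p := by
  rw [mid, show B p x • b + (x + B p x • b + B b x • p) + B b x • p =
    (B p x • b + B p x • b) + (B b x • p + B b x • p) + x by abel,
    add_self_vec F, add_self_vec F, zero_add, zero_add]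

theorem Pair.exists_mid_partner (P : Pair hA L a p b) (hw : B p w = 0) (hw' : B b w = 0)
    (hw0 : w ≠ 0) : ∃ v, B p v = 0 ∧ B b v = 0 ∧ B v w = 1 := by
  obtain ⟨y, hy⟩ := alt_exists_partner P.set.nd.1 hw0
  exact ⟨mid B p b y, P.mid_left y, P.mid_right y, by simp [mid, hw, hw', symm2 hA y w, hy]⟩

/-- The parameter is quadratic and agrees at both points of a pair. -/
theorem Pair.quad (P : Pair hA L a p b) (hw : B p w = 0) (hw' : B b w = 0) :
    (∀ t : F, phi hA L p (t • w) = t * t * phi hA L p w) ∧ phi hA L b w = phi hA L p w := by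
  by_cases h0 : ∀ w, B p w = 0 → B b w = 0 → phi hA L p w = 0 → w = 0
  · by_cases hw0 : w = 0
    · subst hw0
      simp [phi_zero P.set P.noTv P.hp, phi_zero P.set P.noTv P.hb]
    exact P.anisotropic h0 hw hw' hw0
  push Not at h0
  obtain ⟨z, hz, hz', hzf, hz0⟩ := h0
  have cone : ∀ {z}, B p z = 0 → B b z = 0 → phi hA L p z = 0 → z ≠ 0 → ∀ t : F,
      phi hA L p (t • z) = 0 ∧ phi hA L b (t • z) = 0 := by
    intro z hz hz' hzf hz0 t
    have hb := P.symm.zero_line hz' hz hz0 hzf
    refine ⟨P.zero_line hz hz' hz0 ?_ t, hb t⟩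
    simpa using hb 1
  have good : ∀ v, B p v = 0 → B b v = 0 → B v z ≠ 0 →
      (∀ t : F, phi hA L p (t • v) = t * t * phi hA L p v) ∧ phi hA L b v = phi hA L p v := by
    intro v hv hv' hvz
    set s := phi hA L p v / B v z with hs
    have hsz : B p (s • z) = 0 := by simp [hz]
    have hsz' : B b (s • z) = 0 := by simp [hz']
    have hz'' : phi hA L p (v + s • z) = 0 := by
      rw [phi_add P.set P.noTv P.hp hv hsz, (cone hz hz' hzf hz0 s).1, map_smul, smul_eq_mul, hs,
        div_mul_cancel₀ _ hvz, add_zero, CharTwo.add_self_eq_zero]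
    have hne : v + s • z ≠ 0 := by
      intro e
      have h1 := congrArg (fun x => B x z) e
      simp [hA z] at h1
      exact hvz h1
    have hu : B p (v + s • z) = 0 := by rw [map_add, hv, hsz, add_zero]
    have hu' : B b (v + s • z) = 0 := by rw [map_add, hv', hsz', add_zero]
    have c1 := cone hu hu' hz'' hne
    have hv2 : v = (v + s • z) + s • z := by rw [add_assoc, add_self_vec F, add_zero]
    refine ⟨fun t => ?_, ?_⟩
    · rw [hv2, smul_add, smul_smul, phi_add P.set P.noTv P.hp (by rw [map_smul, hu, smul_zero]) (by simp [hz]),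
        phi_add P.set P.noTv P.hp hu hsz, (c1 t).1, hz'', (cone hz hz' hzf hz0 (t * s)).1,
        (cone hz hz' hzf hz0 s).1]
      simp only [map_smul, map_add, LinearMap.smul_apply, LinearMap.add_apply, smul_eq_mul]
      ring
    · have h1 := (c1 1).2
      rw [one_smul] at h1
      rw [hv2, phi_add P.set P.noTv P.hp hu hsz, phi_add P.set P.noTv P.hb hu' hsz', h1, hz'',
        (cone hz hz' hzf hz0 s).1, (cone hz hz' hzf hz0 s).2]
  by_cases hwz : B w z = 0
  swap
  · exact good w hw hw' hwz
  obtain ⟨u, hu, hu', huz⟩ := P.exists_mid_partner hz hz' hz0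
  have hu2 : B p (w + u) = 0 := by rw [map_add, hw, hu, add_zero]
  have hu2' : B b (w + u) = 0 := by rw [map_add, hw', hu', add_zero]
  have g1 := good (w + u) hu2 hu2' (by rw [map_add, LinearMap.add_apply, hwz, huz]; simp)
  have g2 := good u hu hu' (by rw [huz]; exact one_ne_zero)
  have hw2 : w = (w + u) + u := by rw [add_assoc, add_self_vec F, add_zero]
  refine ⟨fun t => ?_, ?_⟩
  · rw [hw2, smul_add, phi_add P.set P.noTv P.hp (by rw [map_smul, hu2, smul_zero]) (by simp [hu]),
      phi_add P.set P.noTv P.hp hu2 hu, g1.1, g2.1]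
    simp only [map_smul, map_add, LinearMap.smul_apply, LinearMap.add_apply, smul_eq_mul]
    ring
  · rw [hw2, phi_add P.set P.noTv P.hp hu2 hu, phi_add P.set P.noTv P.hb hu2' hu', g1.2, g2.2]

theorem Pair.surj [FiniteDimensional F V] (P : Pair hA L a p b) (x : F) :
    ∃ u, B p u = 0 ∧ B b u = 0 ∧ phi hA L p u = x := by
  obtain ⟨u, hu0, hu, hu'⟩ := exists_perp_pair P.set p b
  obtain ⟨v, hv, hv', hvu⟩ := P.exists_mid_partner hu hu' hu0
  obtain ⟨w, hw, hw', hwf⟩ : ∃ w, B p w = 0 ∧ B b w = 0 ∧ phi hA L p w ≠ 0 := by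
    by_contra! hall
    have h := phi_add P.set P.noTv P.hp hv hu
    rw [hall _ hv hv', hall _ hu hu', hall _ (by rw [map_add, hv, hu, add_zero])
      (by rw [map_add, hv', hu', add_zero]), hvu] at h
    simp at h
  obtain ⟨s, hs⟩ := surjective_frobenius F 2 (x / phi hA L p w)
  rw [frobenius_def, pow_two] at hs
  refine ⟨s • w, by simp [hw], by simp [hw'], ?_⟩
  rw [(P.quad hw hw').1, hs, div_mul_cancel₀ _ hwf]

/-- The form as a function. -/
noncomputable def formFun (hA : B.IsAlt) (L : Subgroup (isomGroup B)) (p b x : V) : F :=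
  B p x * B b x + phi hA L p (mid B p b x)

theorem Pair.formFun_smul (P : Pair hA L a p b) (t : F) (x : V) :
    formFun hA L p b (t • x) = (t * t) * formFun hA L p b x := by
  have e : mid B p b (t • x) = t • mid B p b x := by simp [mid, smul_add, smul_smul]
  rw [formFun, formFun, e, (P.quad (P.mid_left x) (P.mid_right x)).1]
  simp only [map_smul, smul_eq_mul]
  ring

theorem Pair.formFun_add (P : Pair hA L a p b) (x y : V) :
    formFun hA L p b (x + y) = formFun hA L p b x + formFun hA L p b y + B x y := by
  have e : mid B p b (x + y) = mid B p b x + mid B p b y := by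
    simp only [mid, map_add, add_smul]; abel
  rw [formFun, formFun, formFun, e, phi_add P.set P.noTv P.hp (P.mid_left x) (P.mid_left y)]
  simp only [mid, map_add, map_smul, LinearMap.add_apply, LinearMap.smul_apply, smul_eq_mul,
    hA p, hA b, P.one, P.symm.one, symm2 hA x p, symm2 hA x b]
  ring_nf
  simp [show (4 : F) = 0 by linear_combination (2 : F) * two_F (F := F)]

/-- The invariant quadratic form. -/
noncomputable def Pair.form (P : Pair hA L a p b) : QuadraticForm F V :=
  QuadraticMap.ofPolar (formFun hA L p b)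
    (fun t x => by rw [P.formFun_smul, smul_eq_mul])
    (fun x x' y => by
      simp only [QuadraticMap.polar, P.formFun_add, map_add, LinearMap.add_apply]
      ring)
    (fun t x y => by
      simp only [QuadraticMap.polar, P.formFun_add, map_smul, LinearMap.smul_apply, smul_eq_mul]
      ring)

theorem Pair.form_apply (P : Pair hA L a p b) (x : V) : P.form x = formFun hA L p b x := rfl

theorem Pair.polar_form (P : Pair hA L a p b) (x y : V) : QuadraticMap.polar (⇑P.form) x y = B x y := by
  simp only [QuadraticMap.polar, P.form_apply, P.formFun_add]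
  ring

theorem Pair.form_mid (P : Pair hA L a p b) (hw : B p w = 0) (hw' : B b w = 0) :
    P.form w = phi hA L p w := by
  simp [P.form_apply, formFun, mid, hw, hw']

theorem Pair.form_left (P : Pair hA L a p b) : P.form p = 0 := by
  simp [P.form_apply, formFun, mid, hA p, P.symm.one, add_self_vec F, phi_zero P.set P.noTv P.hp]

theorem Pair.form_right (P : Pair hA L a p b) : P.form b = 0 := by
  simp [P.form_apply, formFun, mid, hA b, P.one, add_self_vec F, phi_zero P.set P.noTv P.hp]

theorem Pair.form_orb [FiniteDimensional F V] (P : Pair hA L a p b) {r : V} (hr : Orb L a r) :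
    P.form r = 0 := by
  rw [P.form_apply, formFun]
  by_cases hg : B p r = 0
  · rw [hg, zero_mul, zero_add]
    by_cases hi : ∀ t : F, r ≠ t • p
    · have h1 := P.phi_edge hr hg hi 1
      rw [one_smul] at h1
      rw [mid, hg, zero_smul, add_zero, phi_shift P.set P.noTv P.hp hg, h1]
    · push Not at hi
      obtain ⟨t, rfl⟩ := hi
      simp [mid, hA p, P.symm.one, add_self_vec F, phi_zero P.set P.noTv P.hp]
  have h1 := hr.smul (inv_ne_zero hg)
  set r' := (B p r)⁻¹ • r with hr'
  have hpr' : B p r' = 1 := by simp [hr', hg]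
  rw [mid_decomp (p := p) (b := b) (B := B) r', hpr', one_smul] at h1
  have h2 := P.opposite_eq P.surj (P.mid_left r') (P.mid_right r') h1
  have h3 : r = B p r • r' := by rw [hr', smul_smul, mul_inv_cancel₀ hg, one_smul]
  have e : mid B p b r = B p r • mid B p b r' := by
    conv_lhs => rw [h3]
    simp [mid, smul_add, smul_smul, hpr']
  rw [e, (P.quad (P.mid_left r') (P.mid_right r')).1, ← h2, hr', map_smul, smul_eq_mul]
  field_simp
  ring_nf
  simp [two_F]

theorem Pair.preserves [FiniteDimensional F V] (P : Pair hA L a p b) {g : isomGroup B} (hg : g ∈ L)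
    (x : V) : P.form (g.1 x) = P.form x := by
  let W : Submodule F V :=
    { carrier := {x | P.form (g.1 x) = P.form x}
      zero_mem' := by simp
      add_mem' := fun {x y} hx hy => by
        simp only [Set.mem_setOf_eq, map_add, P.form_apply, P.formFun_add, g.2 x y] at hx hy ⊢
        rw [hx, hy]
      smul_mem' := fun t x hx => by
        simp only [Set.mem_setOf_eq, map_smul, P.form_apply, P.formFun_smul] at hx ⊢
        rw [hx] }
  have hle : ∀ r, Orb L a r → r ∈ W := fun r hr => by
    change P.form (g.1 r) = P.form r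
    rw [P.form_orb hr, P.form_orb (hr.map hg)]
  have hinv : ∀ h ∈ L, ∀ w ∈ Submodule.span F {r | Orb L a r},
      h.1 w ∈ Submodule.span F {r | Orb L a r} := by
    intro h hh w hw
    induction hw using Submodule.span_induction with
    | mem r hr => exact Submodule.subset_span (hr.map hh)
    | zero => simp
    | add x y _ _ hx hy => rw [map_add]; exact add_mem hx hy
    | smul c x _ hx => rw [map_smul]; exact Submodule.smul_mem _ _ hx
  have htop : Submodule.span F {r | Orb L a r} = ⊤ := by
    refine (P.set.irr _ hinv).resolve_left fun h => P.set.ne ?_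
    exact (Submodule.eq_bot_iff _).1 h a (Submodule.subset_span (orb_self L a))
  have h2 : (⊤ : Submodule F V) ≤ W := htop ▸ Submodule.span_le.2 hle
  exact h2 (Submodule.mem_top (x := x))

end CfsgLib.Classical.SiegelOver
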