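import Cfsg.Agent.Lib.Classical.SiegelOver.Edge

/-!
# With a transvection the subgroup is the whole symplectic group
-/

set_option autoImplicit false
set_option linter.unusedSectionVars false

open Module

namespace CfsgLib.Classical.SiegelOver

variable {F : Type*} [Field F] [CharP F 2] {V : Type*} [AddCommGroup V] [Module F V]
  {B : V →ₗ[F] V →ₗ[F] F} {hA : B.IsAlt} {L : Subgroup (isomGroup B)} {a : V}

/-- There is a non-zero vector orthogonal to a hyperbolic pair. -/
theorem exists_perp_pair [FiniteDimensional F V] (S : Setting hA L a) (p b : V) :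
    ∃ u : V, u ≠ 0 ∧ B p u = 0 ∧ B b u = 0 := by
  have h := LinearMap.finrank_range_add_finrank_ker ((B p).prod (B b))
  have h2 : finrank F (LinearMap.range ((B p).prod (B b))) ≤ 2 := by
    refine (Submodule.finrank_le _).trans ?_
    simp
  have hk : 0 < finrank F (LinearMap.ker ((B p).prod (B b))) := by
    have := S.dim; omega
  have : Nontrivial (LinearMap.ker ((B p).prod (B b))) := Module.finrank_pos_iff.1 hk
  obtain ⟨⟨u, hu⟩, hu0⟩ := exists_ne (0 : LinearMap.ker ((B p).prod (B b)))
  simp only [LinearMap.mem_ker, LinearMap.prod_apply, Function.prod_apply, Prod.mk_eq_zero] at hu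
  exact ⟨u, fun e => hu0 (Subtype.ext e), hu.1, hu.2⟩

/-- A Siegel element without transvection part. -/
theorem exists_singular [Fintype F] [FiniteDimensional F V] (S : Setting hA L a) {l : F} {u : V}
    (hu : B a u = 0) (hl : l ≠ 0) (hm : tv hA a l ∈ L) :
    ∃ s : F, s ≠ 0 ∧ sg hA a (s • u) (0 : F) ∈ L := by
  classical
  choose f hf using fun t : F => S.siegel (t • u) (by simp [hu])
  have hni : ¬ Function.Injective fun x : F × Bool => f x.1 + if x.2 then l else 0 := by
    intro hinj
    have := Fintype.card_le_of_injective _ hinj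
    rw [Fintype.card_prod, Fintype.card_bool] at this
    have := Fintype.card_pos (α := F)
    omega
  rw [Function.Injective] at hni
  push Not at hni
  obtain ⟨⟨t, i⟩, ⟨t', i'⟩, he, hne⟩ := hni
  have hmem : ∀ (t : F) (i : Bool), sg hA a (t • u) (f t + if i then l else 0) ∈ L := by
    intro t i
    cases i
    · simpa using hf t
    · have := mul_mem hm (hf t)
      rw [tv_mul_sg (by simp [hu]), add_comm] at this
      simpa using this
  refine ⟨t + t', fun e => ?_, ?_⟩
  · rw [CharTwo.add_eq_zero] at e
    subst e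
    refine hne (Prod.ext rfl ?_)
    cases i <;> cases i' <;> simp_all
  · have := mul_mem (hmem t i) (hmem t' i')
    rw [sg_mul (by simp [hu]) (by simp [hu]), ← add_smul] at this
    simp only at he
    convert this using 2
    rw [he, CharTwo.add_self_eq_zero]
    simp [hA u]

/-- Moving the partner of a pair by Siegel elements reaches every vector not orthogonal to `p`. -/
theorem exists_move {p b x : V} (hpb : B p b = 1) (hx : B p x = 1) :
    ∃ w c, B p w = 0 ∧ (sg hA p w c).1 b = x := by
  refine ⟨x + b, B b x, by rw [map_add, hx, hpb, CharTwo.add_self_eq_zero], ?_⟩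
  rw [sg_apply (by rw [map_add, hx, hpb, CharTwo.add_self_eq_zero]), map_add, hA b,
    symm2 hA b p, hpb]
  simp only [add_zero, one_smul, mul_one]
  rw [show b + B b x • p + (x + b) + B b x • p = (b + b) + (B b x • p + B b x • p) + x by abel,
    add_self_vec F, add_self_vec F, zero_add, zero_add]

theorem eq_top_of_tv [Fintype F] [FiniteDimensional F V] (S : Setting hA L a) {l : F} (hl : l ≠ 0)
    (hm : tv hA a l ∈ L) : L = ⊤ := by
  obtain ⟨b, hb, hab⟩ := exists_opposite S S.ne
  obtain ⟨u, hu0, hau, hbu⟩ := exists_perp_pair S a b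
  obtain ⟨s, hs, hsg⟩ := exists_singular S hau hl hm
  have hba : B b a = 1 := by rw [symm2 hA, hab]
  set r := (sg hA a (s • u) (0 : F)).1 b
  have hre : r = b + s • u := by
    simp [r, sg_apply_partner (show B a (s • u) = 0 by simp [hau]) hab
      (show B b (s • u) = 0 by simp [hbu])]
  have hedge : Edge L a b r := by
    refine ⟨hb, hb.map hsg, by simp [hre, hA b, hbu], fun t e => ?_⟩
    have h1 := congrArg (B a) e
    rw [hre] at h1 e
    simp [hab, hau] at h1
    rw [← h1, one_smul, add_eq_left] at e
    exact smul_ne_zero hs hu0 e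
  obtain ⟨d, hd, hmb⟩ := hb.exists_tv hm hl
  have hbf := fun c => hedge.full S hd hmb c
  have haf := hb.full hbf
  have full : ∀ p, Orb L a p → (∀ c, tv hA p c ∈ L) → ∀ w, B p w = 0 → ∀ c, sg hA p w c ∈ L := by
    intro p hp hf w hw c
    obtain ⟨e, he⟩ := hp.siegel S hw
    have := mul_mem (hf (c + e)) he
    rwa [tv_mul_sg hw, add_assoc, CharTwo.add_self_eq_zero, add_zero] at this
  have one : ∀ {p q : V}, Orb L a p → (∀ c, tv hA p c ∈ L) → (∀ c, tv hA q c ∈ L) → B p q = 1 →
      ∀ x, B p x ≠ 0 → ∀ c, tv hA x c ∈ L := by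
    intro p q hp hpf hqf hpq x hx c
    obtain ⟨w, e, hw, hwx⟩ := exists_move (hA := hA) hpq
      (show B p ((B p x)⁻¹ • x) = 1 by simp [hx])
    have h1 := conj_mem (full p hp hpf w hw e) (hqf (B p x * B p x * c))
    rw [conj_tv, hwx, tv_smul] at h1
    convert h1 using 2
    field_simp
  have all : ∀ x c, tv hA x c ∈ L := by
    intro x c
    by_cases hx0 : x = 0
    · subst hx0
      convert one_mem L
      exact Subtype.ext (LinearEquiv.ext fun y => by simp)
    by_cases h1 : B a x = 0
    swap
    · exact one (orb_self L a) haf hbf hab x h1 c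
    by_cases h2 : B b x = 0
    swap
    · exact one hb hbf haf hba x h2 c
    obtain ⟨y, hy⟩ := alt_exists_partner S.nd.1 hx0
    set v := y + B a y • b + B b y • a
    have hav : B a v = 0 := by simp [v, hab, hA a, CharTwo.add_self_eq_zero]
    have hbv : B b v = 0 := by simp [v, hba, hA b, CharTwo.add_self_eq_zero]
    have hvx : B v x = 1 := by simp [v, h1, h2, symm2 hA y x, hy]
    set g := sg hA a v (0 : F)
    have hg : g ∈ L := full a (orb_self L a) haf v hav 0
    have hgb : g.1 b = b + v := by simp [g, sg_apply_partner hav hab hbv]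
    have hf' : ∀ c, tv hA (b + v) c ∈ L := fun c => by
      rw [← hgb, ← conj_tv]; exact conj_mem hg (hbf c)
    exact one (hgb ▸ hb.map hg) hf' haf (by simp [hba, symm2 hA v a, hav]) x (by simp [h2, hvx]) c
  rw [eq_top_iff, ← tvGroup_eq_top hA S.nd]
  exact (Subgroup.closure_le _).2 fun g ⟨v, c, e⟩ => e ▸ all v c

theorem eq_top_or_noTv [Fintype F] [FiniteDimensional F V] (S : Setting hA L a) :
    L = ⊤ ∨ NoTv hA L a := by
  by_cases h : NoTv hA L a
  · exact Or.inr h
  · simp only [NoTv, not_forall] at h
    obtain ⟨c, hc, hc0⟩ := h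
    exact Or.inl (eq_top_of_tv S hc0 hc)

end CfsgLib.Classical.SiegelOver
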