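import Cfsg.Agent.Lib.Classical.SiegelOver.Parity

/-!
# Irreducible subgroups with Siegel elements over a whole perpendicular space
-/

set_option autoImplicit false
set_option linter.unusedSectionVars false

open Module QuadraticMap

namespace CfsgLib.Classical.SiegelOver

variable {F : Type*} [Field F] [CharP F 2] [Fintype F] {V : Type*} [AddCommGroup V] [Module F V]
  [FiniteDimensional F V] {B : V →ₗ[F] V →ₗ[F] F} {hA : B.IsAlt} {L : Subgroup (isomGroup B)}
  {a : V}

theorem edgeOK_of_dim (S : Setting hA L a) (hd : 6 ≤ finrank F V) : EdgeOK hA L a := by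
  intro p r h t
  obtain ⟨v1, hv1, hv1'⟩ := exists_functional S (r := p) (h.2.1.ne_zero S)
    (fun t e => by
      by_cases ht : t = 0
      · exact (h.1.ne_zero S) (by rw [e, ht, zero_smul])
      · exact h.2.2.2 t⁻¹ (by rw [e, smul_smul, inv_mul_cancel₀ ht, one_smul])) (1 : F)
  obtain ⟨v2, hv2, hv2'⟩ := exists_functional S (h.1.ne_zero S) h.2.2.2 (1 : F)
  set T := ((B p).prod (B r)).prod ((B v1).prod (B v2))
  have h1 := LinearMap.finrank_range_add_finrank_ker T
  have h2 : finrank F (LinearMap.range T) ≤ 4 := (Submodule.finrank_le _).trans (by simp)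
  have : Nontrivial (LinearMap.ker T) := (Module.finrank_pos_iff (R := F)).1 (by omega)
  obtain ⟨⟨z, hz⟩, hz0⟩ := exists_ne (0 : LinearMap.ker T)
  simp only [T, LinearMap.mem_ker, LinearMap.prod_apply, Function.prod_apply, Prod.mk_eq_zero] at hz
  obtain ⟨⟨z1, z2⟩, z3, z4⟩ := hz
  obtain ⟨y, hy⟩ := alt_exists_partner S.nd.1 (fun e => hz0 (Subtype.ext e) : z ≠ 0)
  refine h.siegel_of_big S (v := y + B p y • v1 + B r y • v2) (u := z) ?_ ?_ z2 z1 ?_ t
  · simp [hv1', hv2, CharTwo.add_self_eq_zero]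
  · simp [hv1, hv2', CharTwo.add_self_eq_zero]
  · simp [hy, symm2 hA z v1, symm2 hA z v2, z3, z4]

theorem edgeOK_of_field (S : Setting hA L a) (hN : NoTv hA L a)
    (hF : ∃ e : F, e ≠ 0 ∧ e ≠ 1) : EdgeOK hA L a :=
  fun _ _ h t => h.siegel_of_field S hN hF t

theorem exists_pair (S : Setting hA L a) (hN : NoTv hA L a) (hE : EdgeOK hA L a) :
    ∃ b, Pair hA L a a b :=
  let ⟨b, hb, hab⟩ := exists_opposite S S.ne
  ⟨b, S, hN, hE, orb_self L a, hb, hab⟩

/-- The theorem outside the smallest case. -/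
theorem eq_top_or_orth (S : Setting hA L a)
    (hbig : (∃ e : F, e ≠ 0 ∧ e ≠ 1) ∨ 6 ≤ finrank F V) :
    L = ⊤ ∨ ∃ Q : QuadraticForm F V, (∀ x y, polar (⇑Q) x y = B x y) ∧
      ((∀ g : isomGroup B, g ∈ L ↔ ∀ x, Q (g.1 x) = Q x) ∨
        ∀ g : isomGroup B, g ∈ L ↔ (∀ x, Q (g.1 x) = Q x) ∧ par g = 0) := by
  rcases eq_top_or_noTv S with h | hN
  · exact Or.inl h
  have hE : EdgeOK hA L a := hbig.elim (edgeOK_of_field S hN) (edgeOK_of_dim S)
  obtain ⟨b, P⟩ := exists_pair S hN hE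
  exact Or.inr ⟨P.form, P.polar_form, P.eq_orth_or_even fun g hg => P.mem_twoCosets (hbig.imp id fun h => by omega) hg⟩

end CfsgLib.Classical.SiegelOver
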