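import Cfsg.Agent.Lib.Classical.SiegelOver.Words

/-!
# The parity on the generated subgroup, by adding a hyperbolic plane
-/

set_option autoImplicit false
set_option linter.unusedSectionVars false

open Module QuadraticMap CfsgLib.Orth

namespace CfsgLib.Classical.SiegelOver

variable {F : Type*} [Field F] [CharP F 2] [Fintype F] {V : Type*} [AddCommGroup V] [Module F V]
  [FiniteDimensional F V] {B : V →ₗ[F] V →ₗ[F] F} {hA : B.IsAlt} {L : Subgroup (isomGroup B)}
  {a p b : V}

/-- The form on the sum with a hyperbolic plane. -/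
def extForm (B : V →ₗ[F] V →ₗ[F] F) : (V × F × F) →ₗ[F] (V × F × F) →ₗ[F] F :=
  LinearMap.mk₂ F (fun x y => B x.1 y.1 + x.2.1 * y.2.2 + x.2.2 * y.2.1)
    (fun x x' y => by simp; ring) (fun c x y => by simp; ring)
    (fun x y y' => by simp; ring) (fun c x y => by simp; ring)

theorem extForm_apply (x y : V × F × F) :
    extForm B x y = B x.1 y.1 + x.2.1 * y.2.2 + x.2.2 * y.2.1 := rfl

theorem extForm_isAlt (hA : B.IsAlt) : (extForm B).IsAlt := fun x => by
  rw [extForm_apply, hA]
  linear_combination x.2.1 * x.2.2 * two_F (F := F)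

theorem extForm_nd (hA : B.IsAlt) (hN : B.Nondegenerate) : (extForm B).Nondegenerate := by
  have h : ∀ x, (∀ y, extForm B x y = 0) → x = 0 := fun x hx => by
    have h1 : x.1 = 0 := hN.1 _ fun v => by simpa [extForm_apply] using hx (v, 0, 0)
    have h2 : x.2.1 = 0 := by simpa [extForm_apply] using hx (0, 0, 1)
    have h3 : x.2.2 = 0 := by simpa [extForm_apply] using hx (0, 1, 0)
    exact Prod.ext h1 (Prod.ext h2 h3)
  exact ⟨h, fun y hy => h y fun x => by rw [symm2 (extForm_isAlt hA), hy]⟩

/-- The quadratic form on the sum with a hyperbolic plane. -/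
noncomputable def extQuad (Q : QuadraticForm F V) : QuadraticForm F (V × F × F) :=
  QuadraticMap.ofPolar (fun x => Q x.1 + x.2.1 * x.2.2)
    (fun t x => by simp [QuadraticMap.map_smul]; ring)
    (fun x x' y => by
      have h := polar_add_left Q x.1 x'.1 y.1
      simp only [polar, Prod.fst_add, Prod.snd_add] at h ⊢
      linear_combination h)
    (fun t x y => by
      have h := polar_smul_left Q t x.1 y.1
      simp only [polar, Prod.fst_add, Prod.snd_add, Prod.smul_fst, Prod.smul_snd, smul_eq_mul] at h ⊢
      linear_combination h)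

theorem extQuad_apply (Q : QuadraticForm F V) (x : V × F × F) :
    extQuad Q x = Q x.1 + x.2.1 * x.2.2 := rfl

theorem polar_extQuad {Q : QuadraticForm F V} (hpol : ∀ x y, polar (⇑Q) x y = B x y)
    (x y : V × F × F) : polar (⇑(extQuad Q)) x y = extForm B x y := by
  rw [extForm_apply, ← hpol]
  simp only [polar, extQuad_apply, Prod.fst_add, Prod.snd_add]
  ring

/-- Extension by the identity on the plane. -/
def ext' (B : V →ₗ[F] V →ₗ[F] F) : isomGroup B →* isomGroup (extForm B) where
  toFun g := ⟨g.1.prodCongr (LinearEquiv.refl F (F × F)), fun x y => by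
    simp [extForm_apply, g.2]⟩
  map_one' := Subtype.ext (LinearEquiv.ext fun _ => rfl)
  map_mul' _ _ := Subtype.ext (LinearEquiv.ext fun _ => rfl)

@[simp] theorem ext'_apply (g : isomGroup B) (x : V × F × F) :
    (ext' B g).1 x = (g.1 x.1, x.2) := rfl

theorem par_ext' (g : isomGroup B) : par (ext' B g) = par g := by
  set f := (g.1 : V →ₗ[F] V) - LinearMap.id with hf
  have e : LinearMap.range (((ext' B g).1 : V × F × F →ₗ[F] V × F × F) - LinearMap.id) =
      (LinearMap.range f).map (LinearMap.inl F V (F × F)) := by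
    ext x
    constructor
    · rintro ⟨y, rfl⟩
      refine ⟨f y.1, ⟨y.1, rfl⟩, ?_⟩
      ext <;> simp [hf]
    · rintro ⟨_, ⟨v, rfl⟩, rfl⟩
      exact ⟨(v, 0), by simp [hf]⟩
  rw [par, par, e, ← hf, (Submodule.equivMapOfInjective _ LinearMap.inl_injective _).symm.finrank_eq]

theorem ext'_tv (v : V) (c : F) :
    ext' B (tv hA v c) = tv (extForm_isAlt hA) ((v, 0) : V × F × F) c := by
  refine Subtype.ext (LinearEquiv.ext fun x => ?_)
  rw [ext'_apply, tv_apply, tv_apply, extForm_apply]
  ext <;> simp

theorem ext'_sg {q w : V} (hw : B q w = 0) (c : F) :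
    ext' B (sg hA q w c) = sg (extForm_isAlt hA) ((q, 0) : V × F × F) (w, 0) c := by
  refine Subtype.ext (LinearEquiv.ext fun x => ?_)
  rw [ext'_apply, sg_apply hw, sg_apply (by simp [extForm_apply, hw])]
  ext <;> simp [extForm_apply]

theorem sg_eq_rf {W : Type*} [AddCommGroup W] [Module F W] [FiniteDimensional F W] {C : W →ₗ[F] W →ₗ[F] F} (hC : C.IsAlt)
    {R : QuadraticForm F W} (hpol : ∀ x y, polar (⇑R) x y = C x y) {q w : W} (hq : R q = 0)
    (hw : C q w = 0) (hw0 : R w ≠ 0) : sg hC q w (R w) ∈ evenWords hC R := by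
  have hwq : C w q = 0 := by rw [symm2 hC, hw]
  have e : R (w + R w • q) = R w := by
    rw [quad_add hpol, QuadraticMap.map_smul, hq, map_smul, hwq]; simp
  refine Subgroup.subset_closure ⟨w, w + R w • q, hw0, by rwa [e], ?_⟩
  refine Subtype.ext (LinearEquiv.ext fun x => ?_)
  rw [Subgroup.coe_mul, LinearEquiv.mul_apply, rf, rf, e, tv_apply, tv_apply, sg_apply hw]
  simp only [map_add, map_smul, LinearMap.add_apply, LinearMap.smul_apply, hC w, hw, smul_eq_mul]
  match_scalars <;> field_simp <;> ring_nf <;> simp [two_F]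

namespace Pair

variable (P : Pair hA L a p b)

theorem ext'_gens {k : isomGroup B} (hk : k ∈ P.gens) :
    ext' B k ∈ evenWords (extForm_isAlt hA) (extQuad P.form) := by
  suffices P.gens ≤ (evenWords (extForm_isAlt hA) (extQuad P.form)).comap (ext' B) from this hk
  have key : ∀ {q w : V}, P.form q = 0 → B q w = 0 →
      ext' B (sg hA q w (P.form w)) ∈ evenWords (extForm_isAlt hA) (extQuad P.form) := by
    intro q w hq hw
    rw [ext'_sg hw]
    have hqp := polar_extQuad P.polar_form
    have hq' : extQuad P.form ((q, 0) : V × F × F) = 0 := by simp [extQuad_apply, hq]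
    have hw' : extForm B (q, 0) ((w, 0) : V × F × F) = 0 := by simp [extForm_apply, hw]
    have ew : extQuad P.form ((w, 0) : V × F × F) = P.form w := by simp [extQuad_apply]
    by_cases h0 : P.form w = 0
    swap
    · have := sg_eq_rf (extForm_isAlt hA) hqp hq' hw' (by rwa [ew])
      rwa [ew] at this
    set y : V × F × F := (0, 1, 1)
    have hy : extForm B (q, 0) y = 0 := by simp [y, extForm_apply]
    have hwy : extForm B (q, 0) (((w, 0) : V × F × F) + y) = 0 := by rw [map_add, hw', hy, add_zero]
    have h1 := sg_eq_rf (extForm_isAlt hA) hqp hq' hwy (by simp [y, extQuad_apply, h0])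
    have h2 := sg_eq_rf (extForm_isAlt hA) hqp hq' hy (by simp [y, extQuad_apply])
    have e := mul_mem h1 h2
    rw [sg_mul hwy hy, add_assoc ((w, 0) : V × F × F), add_self_vec F, add_zero] at e
    convert e using 2
    simp [y, extQuad_apply, extForm_apply, h0, CharTwo.add_self_eq_zero]
  refine (Subgroup.closure_le _).2 ?_
  rintro g ⟨w, hw, hw', rfl | rfl⟩
  · exact key P.form_left hw
  · exact key P.form_right hw'

theorem par_gens {k : isomGroup B} (hk : k ∈ P.gens) : par k = 0 := by
  rw [← par_ext']
  exact par_evenWords (extForm_nd hA P.set.nd) (polar_extQuad P.polar_form) (P.ext'_gens hk)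

theorem par_gens_swap {k : isomGroup B} (hk : k ∈ P.gens) : par (k * P.swap) = 1 := by
  have e1 : extQuad P.form ((p + b, 0) : V × F × F) = 1 := by simp [extQuad_apply, P.form_sum]
  have h := par_evenWords_rf (extForm_nd hA P.set.nd) (polar_extQuad P.polar_form) (P.ext'_gens hk)
    (u := ((p + b, 0) : V × F × F)) (by rw [e1]; exact one_ne_zero)
  rwa [rf, e1, ← P.form_sum, ← ext'_tv (hA := hA), ← map_mul, par_ext'] at h

/-- The conclusion. -/
theorem eq_orth_or_even
    (hgen : ∀ g : isomGroup B, (∀ x, P.form (g.1 x) = P.form x) → g ∈ P.twoCosets) :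
    (∀ g : isomGroup B, g ∈ L ↔ ∀ x, P.form (g.1 x) = P.form x) ∨
    ∀ g : isomGroup B, g ∈ L ↔ (∀ x, P.form (g.1 x) = P.form x) ∧ par g = 0 := by
  by_cases hr : P.swap ∈ L
  · left
    refine fun g => ⟨fun hg => P.preserves hg, fun hg => ?_⟩
    rcases hgen g hg with h | h
    · exact P.gens_le h
    · have := mul_mem (P.gens_le h) hr
      rwa [mul_assoc, P.swap_sq, mul_one] at this
  · right
    refine fun g => ⟨fun hg => ⟨P.preserves hg, ?_⟩, fun hg => ?_⟩
    · rcases hgen g (P.preserves hg) with h | h
      · exact P.par_gens h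
      · refine absurd ?_ hr
        have := mul_mem (inv_mem hg) (P.gens_le h)
        rwa [inv_mul_cancel_left] at this
    · rcases hgen g hg.1 with h | h
      · exact P.gens_le h
      · exfalso
        have h1 := P.par_gens_swap h
        rw [mul_assoc, P.swap_sq, mul_one, hg.2] at h1
        exact zero_ne_one h1

end Pair

end CfsgLib.Classical.SiegelOver
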