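import Cfsg.Agent.Lib.Classical.SiegelOver.Full

/-!
# Without transvections at `a` the parameters form a quadratic form
-/

set_option autoImplicit false
set_option linter.unusedSectionVars false

open Module

namespace CfsgLib.Classical.SiegelOver

variable {F : Type*} [Field F] [CharP F 2] [Fintype F] {V : Type*} [AddCommGroup V] [Module F V]
  {B : V →ₗ[F] V →ₗ[F] F} {hA : B.IsAlt} {L : Subgroup (isomGroup B)} {a : V}

/-- Perpendicular points give Siegel elements without transvection part. -/
def EdgeOK (hA : B.IsAlt) (L : Subgroup (isomGroup B)) (a : V) : Prop :=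
  ∀ p r, Edge L a p r → ∀ t : F, sg hA p (t • r) (0 : F) ∈ L

open Classical in
/-- The parameter of the Siegel element at `p` over `w`. -/
noncomputable def phi (hA : B.IsAlt) (L : Subgroup (isomGroup B)) (p w : V) : F :=
  Classical.epsilon fun c => sg hA p w c ∈ L

/-- A hyperbolic pair of points, without transvections. -/
structure Pair (hA : B.IsAlt) (L : Subgroup (isomGroup B)) (a p b : V) : Prop where
  set : Setting hA L a
  noTv : NoTv hA L a
  ok : EdgeOK hA L a
  hp : Orb L a p
  hb : Orb L a b
  one : B p b = 1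

variable {p b w w' : V}

theorem phi_spec (S : Setting hA L a) (hp : Orb L a p) (hw : B p w = 0) :
    sg hA p w (phi hA L p w) ∈ L :=
  Classical.epsilon_spec (hp.siegel S hw)

theorem phi_eq (S : Setting hA L a) (hN : NoTv hA L a) (hp : Orb L a p) (hw : B p w = 0) {c : F}
    (h : sg hA p w c ∈ L) : phi hA L p w = c := by
  have := mul_mem (phi_spec S hp hw) h
  rw [sg_mul hw hw, add_self_vec F, sg_zero_right, hA, add_zero] at this
  exact CharTwo.add_eq_zero.1 (hp.noTv hN _ this)

theorem phi_add (S : Setting hA L a) (hN : NoTv hA L a) (hp : Orb L a p) (hw : B p w = 0)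
    (hw' : B p w' = 0) :
    phi hA L p (w + w') = phi hA L p w + phi hA L p w' + B w w' := by
  refine phi_eq S hN hp (by rw [map_add, hw, hw', add_zero]) ?_
  rw [← sg_mul hw hw']
  exact mul_mem (phi_spec S hp hw) (phi_spec S hp hw')

theorem phi_zero (S : Setting hA L a) (hN : NoTv hA L a) (hp : Orb L a p) :
    phi hA L p (0 : V) = 0 := by
  refine phi_eq S hN hp (by simp) ?_
  rw [sg_zero_zero]; exact one_mem L

theorem phi_shift (S : Setting hA L a) (hN : NoTv hA L a) (hp : Orb L a p) (hw : B p w = 0) (t : F) :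
    phi hA L p (w + t • p) = phi hA L p w := by
  refine phi_eq S hN hp (by simp [hw, hA p]) ?_
  rw [sg_shift hw]
  exact phi_spec S hp hw

theorem Pair.symm (P : Pair hA L a p b) : Pair hA L a b p :=
  ⟨P.set, P.noTv, P.ok, P.hb, P.hp, by rw [symm2 hA, P.one]⟩

theorem Pair.phi_edge (P : Pair hA L a p b) {r : V} (hr : Orb L a r) (hpr : B p r = 0)
    (hi : ∀ t : F, r ≠ t • p) (t : F) : phi hA L p (t • r) = 0 :=
  phi_eq P.set P.noTv P.hp (by simp [hpr]) (P.ok p r ⟨P.hp, hr, hpr, hi⟩ t)

theorem Pair.image_mem (P : Pair hA L a p b) (hw : B p w = 0) (hw' : B b w = 0) :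
    Orb L a (b + w + phi hA L p w • p) := by
  rw [← sg_apply_partner hw P.one hw' (hA := hA)]
  exact P.hb.map (phi_spec P.set P.hp hw)

/-- A zero at one point of the pair gives a line of zeros at the other. -/
theorem Pair.zero_line (P : Pair hA L a p b) (hw : B p w = 0) (hw' : B b w = 0) (hw0 : w ≠ 0)
    (h : phi hA L b w = 0) (t : F) : phi hA L p (t • w) = 0 := by
  have h1 := P.symm.image_mem hw' hw
  rw [h, zero_smul, add_zero] at h1
  have hi : ∀ s : F, p + w ≠ s • p := by
    intro s e
    have h2 := congrArg (B b) e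
    simp [P.symm.one, hw'] at h2
    rw [← h2, one_smul, add_eq_left] at e
    exact hw0 e
  have h3 := P.phi_edge h1 (by simp [hA p, hw]) hi t
  rwa [smul_add, add_comm, phi_shift P.set P.noTv P.hp (by simp [hw])] at h3

/-- The parameter of an image opposite to `p`. -/
theorem Pair.opposite_eq (P : Pair hA L a p b)
    (hsur : ∀ x : F, ∃ u, B p u = 0 ∧ B b u = 0 ∧ phi hA L p u = x) {v : V} {c : F}
    (hv : B p v = 0) (hv' : B b v = 0) (hr : Orb L a (b + v + c • p)) : c = phi hA L p v := by
  have hbp : B b p = 1 := P.symm.one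
  by_contra hne
  obtain ⟨u, hu, hu', hu3⟩ := hsur (c + phi hA L p v)
  have hu0 : u ≠ 0 := by
    rintro rfl
    rw [phi_zero P.set P.noTv P.hp] at hu3
    exact hne (CharTwo.add_eq_zero.1 hu3.symm)
  have hz : B p (u + v) = 0 := by rw [map_add, hu, hv, add_zero]
  have hzr : phi hA L p (u + v) = c + B u v := by
    rw [phi_add P.set P.noTv P.hp hu hv, hu3]
    linear_combination phi hA L p v * two_F (F := F)
  have h1 := hr.map (phi_spec P.set P.hp hz)
  have e : (sg hA p (u + v) (phi hA L p (u + v))).1 (b + v + c • p) = b + u := by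
    rw [hzr, map_add, map_add, map_smul, sg_apply_partner hz P.one (by simp [hu', hv']),
      sg_apply_perp hz hv, sg_apply_self hz, map_add, hA v, add_zero, symm2 hA v u]
    match_scalars <;> ring_nf <;> simp [two_F]
  rw [e] at h1
  have hi : ∀ s : F, b + u ≠ s • b := by
    intro s es
    have h2 := congrArg (B p) es
    simp [P.one, hu] at h2
    rw [← h2, one_smul, add_eq_left] at es
    exact hu0 es
  have h2 := P.symm.phi_edge h1 (by simp [hA b, hu']) hi 1
  have h2' := phi_shift P.set P.noTv P.hb hu' (1 : F)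
  rw [one_smul] at h2'
  rw [one_smul, add_comm, h2'] at h2
  have h3 := P.zero_line hu hu' hu0 h2 1
  rw [one_smul, hu3] at h3
  exact hne (CharTwo.add_eq_zero.1 h3)

/-- An additive map whose inversion twist is additive is a square root. -/
theorem sq_root_of_inv_additive {g : F → F} (hg : ∀ x y, g (x + y) = g x + g y)
    (hj : ∀ x y, (x + y) * g (x + y)⁻¹ = x * g x⁻¹ + y * g y⁻¹) (z : F) :
    g (z * z) = z * g 1 := by
  have g0 : g 0 = 0 := by
    have := hg 0 0; rw [add_zero] at this; exact left_eq_add.1 this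
  have key : ∀ g : F → F, g 0 = 0 → (∀ x y, g (x + y) = g x + g y) →
      (∀ x y, (x + y) * g (x + y)⁻¹ = x * g x⁻¹ + y * g y⁻¹) → ∀ z, g z⁻¹ * z = g z := by
    intro g g0 hg hj z
    by_cases hz : z = 0
    · subst hz; simp [g0]
    by_cases hz1 : z = 1
    · subst hz1; simp
    set y : F := z + 1 with hy
    have hy0 : y ≠ 0 := fun e => hz1 (CharTwo.add_eq_zero.1 (hy.symm.trans e))
    have e1 : (y⁻¹ + 1)⁻¹ = 1 + z⁻¹ := by
      have e2 : y⁻¹ + 1 = z / y := by
        field_simp
        rw [hy]; linear_combination two_F (F := F)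
      rw [e2, inv_div, hy]
      field_simp
    have h1 := hj y⁻¹ 1
    rw [inv_inv, inv_one, one_mul, e1, hg, show y⁻¹ + 1 = z / y by
      field_simp; rw [hy]; linear_combination two_F (F := F), hy, hg] at h1
    have hz2 : z + 1 ≠ 0 := hy0
    field_simp at h1
    rw [one_div] at h1
    linear_combination h1 + g 1 * two_F (F := F)
  have h1 := key (fun x => g (z * x)) (by simp [g0]) (fun x y => by rw [mul_add, hg]) (fun x y => by
    have := hj (x * z⁻¹) (y * z⁻¹)
    rw [← add_mul, mul_inv, inv_inv, mul_inv, inv_inv, mul_inv, inv_inv] at this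
    by_cases hz : z = 0
    · simp [hz, g0]
    field_simp at this
    simp only [div_eq_mul_inv, mul_comm z] at this ⊢
    linear_combination this) z
  by_cases hz : z = 0
  · simp [hz, g0]
  rw [mul_inv_cancel₀ hz] at h1
  rw [← h1, mul_comm]

/-- Without zeros the parameter is quadratic on lines and the same at both points. -/
theorem Pair.anisotropic (P : Pair hA L a p b)
    (h0 : ∀ w, B p w = 0 → B b w = 0 → phi hA L p w = 0 → w = 0) (hw : B p w = 0)
    (hw' : B b w = 0) (hw0 : w ≠ 0) :
    (∀ t : F, phi hA L p (t • w) = t * t * phi hA L p w) ∧ phi hA L b w = phi hA L p w := by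
  have hm : ∀ t : F, B p (t • w) = 0 := fun t => by simp [hw]
  have hm' : ∀ t : F, B b (t • w) = 0 := fun t => by simp [hw']
  have hk0 : ∀ t : F, phi hA L b (t • w) = 0 → t = 0 := by
    intro t ht
    by_contra hne
    have := P.zero_line (hm t) (hm' t) (smul_ne_zero hne hw0) ht 1
    rw [one_smul] at this
    exact smul_ne_zero hne hw0 (h0 _ (hm t) (hm' t) this)
  have hadd : ∀ {q : V}, Orb L a q → B q w = 0 → ∀ s t : F,
      phi hA L q ((s + t) • w) = phi hA L q (s • w) + phi hA L q (t • w) := by
    intro q hq hqw s t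
    rw [add_smul, phi_add P.set P.noTv hq (by simp [hqw]) (by simp [hqw])]
    simp [hA w]
  set h : F → F := fun t => phi hA L p (t • w) with hh
  set k : F → F := fun t => phi hA L b (t • w) with hk
  have hbij : ∀ f : F → F, (∀ s t, f (s + t) = f s + f t) → (∀ t, f t = 0 → t = 0) →
      Function.Bijective f := by
    intro f hf hz
    refine Finite.injective_iff_bijective.1 fun s t e => CharTwo.add_eq_zero.1 (hz _ ?_)
    rw [hf, e, CharTwo.add_self_eq_zero]
  have hh0 : ∀ t, h t = 0 → t = 0 := fun t ht => by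
    by_contra hne
    exact smul_ne_zero hne hw0 (h0 _ (hm t) (hm' t) ht)
  have hhb := hbij h (hadd P.hp hw) hh0
  have hkb := hbij k (hadd P.hb hw') hk0
  obtain ⟨g, hgl, hgr⟩ := Function.bijective_iff_has_inverse.1 hhb
  have hsur : ∀ x : F, ∃ u, B p u = 0 ∧ B b u = 0 ∧ phi hA L p u = x := fun x =>
    ⟨g x • w, hm _, hm' _, hgr x⟩
  have rel : ∀ s : F, h (s / k s) = (k s)⁻¹ := by
    intro s
    by_cases hs : s = 0
    · subst hs
      simp [hh, hk, phi_zero P.set P.noTv P.hp, phi_zero P.set P.noTv P.hb]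
    have hks : k s ≠ 0 := fun e => hs (hk0 s e)
    have h1 := (P.symm.image_mem (hm' s) (hm s)).smul (inv_ne_zero hks)
    refine (P.opposite_eq hsur (hm _) (hm' _) ?_).symm
    convert h1 using 1
    change b + (s / k s) • w + (k s)⁻¹ • p = (k s)⁻¹ • (p + s • w + k s • b)
    match_scalars <;> field_simp
  have rel2 : ∀ x : F, k (x * g x⁻¹) = x := by
    intro x
    obtain ⟨s, rfl⟩ := hkb.2 x
    have e := congrArg g (rel s)
    rw [hgl] at e
    by_cases hs : k s = 0
    · simp [hk0 s hs, hk, phi_zero P.set P.noTv P.hb]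
    rw [← e, mul_div_cancel₀ _ hs]
  have hgadd : ∀ x y, g (x + y) = g x + g y := fun x y => hhb.1 (by
    rw [hgr]
    exact (congrArg₂ (· + ·) (hgr x) (hgr y)).symm.trans (hadd P.hp hw _ _).symm)
  have sq := sq_root_of_inv_additive hgadd fun x y => hkb.1 (by
    rw [rel2]
    exact (congrArg₂ (· + ·) (rel2 x) (rel2 y)).symm.trans (hadd P.hb hw' _ _).symm)
  have hroot : ∀ y : F, g y * g y = y * (g 1 * g 1) := by
    intro y
    obtain ⟨z, rfl⟩ := surjective_frobenius F 2 y
    rw [frobenius_def, pow_two, sq]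
    ring
  have g1 : g 1 ≠ 0 := fun e => by
    have := hgr 1; rw [e] at this
    simp [hh, phi_zero P.set P.noTv P.hp] at this
  have hquad : ∀ t, h t = t * t / (g 1 * g 1) := fun t => by
    rw [eq_div_iff (mul_ne_zero g1 g1), ← hroot, hgl]
  refine ⟨fun t => ?_, ?_⟩
  · have := hquad 1
    simp only [hh, one_smul] at this hquad
    rw [hquad, this]; ring
  · have e : ∀ x, x * g x⁻¹ = g x := fun x => by
      obtain ⟨z, rfl⟩ := surjective_frobenius F 2 x
      rw [frobenius_def, pow_two, mul_inv, sq, sq]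
      by_cases hz : z = 0
      · simp [hz]
      field_simp
    have := rel2 (h 1)
    rw [e, hgl] at this
    simpa [hh, hk] using this

end CfsgLib.Classical.SiegelOver
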