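import Cfsg.Agent.Lib.Classical.SiegelOver.Form
import Cfsg.Agent.Lib.Orth.Witt

/-!
# Reflections and the parity of the rank
-/

set_option autoImplicit false
set_option linter.unusedSectionVars false

open Module QuadraticMap CfsgLib.Orth

namespace CfsgLib.Classical.SiegelOver

variable {F : Type*} [Field F] [CharP F 2] {V : Type*} [AddCommGroup V] [Module F V]
  [FiniteDimensional F V] {B : V →ₗ[F] V →ₗ[F] F} {hA : B.IsAlt} {Q : QuadraticForm F V}

/-- The reflection in `u`. -/
def rf (hA : B.IsAlt) (Q : QuadraticForm F V) (u : V) : isomGroup B := tv hA u (Q u)⁻¹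

/-- The parity of the rank of `g - 1`. -/
noncomputable def par (g : isomGroup B) : ℕ :=
  finrank F (LinearMap.range ((g.1 : V →ₗ[F] V) - LinearMap.id)) % 2

theorem mem_fix {g : isomGroup B} {x : V} :
    x ∈ LinearMap.ker ((g.1 : V →ₗ[F] V) - LinearMap.id) ↔ g.1 x = x := by
  rw [LinearMap.mem_ker, LinearMap.sub_apply, LinearMap.id_apply, sub_eq_zero]
  rfl

variable (hN : B.Nondegenerate) (hpol : ∀ x y, polar (⇑Q) x y = B x y)

include hpol in
theorem quad_add (x y : V) : Q (x + y) = Q x + Q y + B x y := by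
  rw [← hpol, polar]; ring

include hpol in
theorem rf_mem {u : V} (hu : Q u ≠ 0) (x : V) : Q ((rf hA Q u).1 x) = Q x := by
  rw [rf, tv_apply, quad_add hpol, QuadraticMap.map_smul, map_smul, smul_eq_mul, smul_eq_mul]
  field_simp
  linear_combination (B x u) ^ 2 * two_F (F := F)

include hN hpol in
theorem par_flip {u : V} (hu : Q u ≠ 0) {h : isomGroup B} (hh : ∀ x, Q (h.1 x) = Q x) :
    par (rf hA Q u * h) + par h = 1 := by
  set N := LinearMap.ker ((h.1 : V →ₗ[F] V) - LinearMap.id) with hNdef
  set M := LinearMap.ker (((rf hA Q u * h).1 : V →ₗ[F] V) - LinearMap.id) with hMdef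
  have memM : ∀ x, x ∈ M ↔ h.1 x + ((Q u)⁻¹ * B (h.1 x) u) • u = x := fun x => by
    rw [hMdef, mem_fix]; simp [rf]
  have h1 := LinearMap.finrank_range_add_finrank_ker ((h.1 : V →ₗ[F] V) - LinearMap.id)
  have h2 := LinearMap.finrank_range_add_finrank_ker
    (((rf hA Q u * h).1 : V →ₗ[F] V) - LinearMap.id)
  rw [← hNdef] at h1
  rw [← hMdef] at h2
  suffices finrank F N + 1 = finrank F M ∨ finrank F M + 1 = finrank F N by
    simp only [par]; omega
  have hu0 : u ≠ 0 := by rintro rfl; simp at hu
  by_cases hy : ∃ y, h.1 y = y + u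
  · left
    obtain ⟨y, hy⟩ := hy
    have hyy : B y u = Q u := by
      have e := hh y
      rw [hy, quad_add hpol] at e
      rw [← CharTwo.add_eq_zero]
      linear_combination e
    have hf : ∀ f ∈ N, B f u = 0 := fun f hf => by
      rw [hNdef, mem_fix] at hf
      have e := h.2 f y
      rwa [hf, hy, map_add, add_eq_left] at e
    have hyu : B (h.1 y) u = Q u := by rw [hy, map_add, LinearMap.add_apply, hA u, add_zero, hyy]
    have hyM : y ∈ M := (memM y).2 (by
      rw [hyu, inv_mul_cancel₀ hu, one_smul, hy, add_assoc, add_self_vec F, add_zero])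
    have hyN : y ∉ N := fun e => by
      rw [hNdef, mem_fix, hy, add_eq_left] at e
      exact hu0 e
    have hle : N ⊔ Submodule.span F {y} = M := by
      refine le_antisymm (sup_le (fun f hf' => (memM f).2 ?_) ?_) fun x hx => ?_
      · have e := hf f hf'
        rw [hNdef, mem_fix] at hf'
        rw [hf', e, mul_zero, zero_smul, add_zero]
      · rwa [Submodule.span_singleton_le_iff_mem]
      · set c := (Q u)⁻¹ * B (h.1 x) u
        have e := (memM x).1 hx
        refine Submodule.mem_sup.2 ⟨x + c • y, ?_, c • y, Submodule.smul_mem _ _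
          (Submodule.mem_span_singleton_self y), by rw [add_assoc, add_self_vec F, add_zero]⟩
        rw [hNdef, mem_fix, map_add, map_smul, hy, smul_add, add_left_comm, add_comm (c • y), e]
    rw [← hle, Submodule.finrank_sup_span_singleton hyN]
  · right
    push Not at hy
    have hur : u ∉ LinearMap.range ((h.1 : V →ₗ[F] V) - LinearMap.id) := by
      rintro ⟨y, e⟩
      refine hy y ?_
      rw [← e]; simp
    obtain ⟨ℓ, hℓu, hℓ⟩ := Submodule.exists_le_ker_of_notMem hur
    obtain ⟨f, rfl⟩ : ∃ f, B f = ℓ :=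
      (LinearMap.injective_iff_surjective_of_finrank_eq_finrank Subspace.dual_finrank_eq.symm).1
        (LinearMap.ker_eq_bot.1 (LinearMap.separatingLeft_iff_ker_eq_bot.1 hN.1)) ℓ
    have hfN : f ∈ N := by
      rw [hNdef, mem_fix]
      have e : ∀ x, B f (h.1 x) = B f x := fun x => by
        have := hℓ ⟨x, rfl⟩
        rw [LinearMap.mem_ker, LinearMap.sub_apply, map_sub, sub_eq_zero] at this
        simpa using this
      refine sub_eq_zero.1 (hN.1 _ fun z => ?_)
      obtain ⟨x, rfl⟩ := h.1.surjective z
      rw [map_sub, LinearMap.sub_apply, e, h.2, sub_self]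
    set k := (B.flip u).domRestrict N
    have hk : LinearMap.range k = ⊤ := by
      rw [LinearMap.range_eq_top]
      intro c
      refine ⟨(c / B f u) • ⟨f, hfN⟩, ?_⟩
      show k _ = c
      rw [map_smul, smul_eq_mul]
      exact div_mul_cancel₀ _ hℓu
    have e3 := LinearMap.finrank_range_add_finrank_ker k
    rw [hk, finrank_top, Module.finrank_self] at e3
    have hM : M = (LinearMap.ker k).map N.subtype := by
      ext x
      constructor
      · intro hx
        rw [memM] at hx
        by_cases hc : (Q u)⁻¹ * B (h.1 x) u = 0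
        · rw [hc, zero_smul, add_zero] at hx
          have hx' : x ∈ N := by rw [hNdef, mem_fix, hx]
          rw [hx] at hc
          refine ⟨⟨x, hx'⟩, ?_, rfl⟩
          exact (mul_eq_zero.1 hc).resolve_left (inv_ne_zero hu)
        · exfalso
          generalize hcdef : (Q u)⁻¹ * B (h.1 x) u = c at hx hc
          have hx2 : h.1 x = x + c • u :=
            calc h.1 x = h.1 x + c • u + c • u := by rw [add_assoc, add_self_vec F, add_zero]
              _ = _ := by rw [hx]
          refine hy (c⁻¹ • x) ?_
          rw [map_smul, hx2, smul_add, smul_smul, inv_mul_cancel₀ hc, one_smul]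
      · rintro ⟨⟨x, hx⟩, hk', rfl⟩
        rw [hNdef, mem_fix] at hx
        refine (memM x).2 ?_
        have : B x u = 0 := hk'
        rw [hx, this, mul_zero, zero_smul, add_zero]
    rw [hM, LinearEquiv.finrank_eq (Submodule.equivMapOfInjective _ N.injective_subtype _).symm]
    omega

/-- Products of two reflections. -/
def evenWords (hA : B.IsAlt) (Q : QuadraticForm F V) : Subgroup (isomGroup B) :=
  Subgroup.closure {g | ∃ u v, Q u ≠ 0 ∧ Q v ≠ 0 ∧ g = rf hA Q u * rf hA Q v}

include hN hpol in
theorem evenWords_spec {k : isomGroup B} (hk : k ∈ evenWords hA Q) :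
    (∀ x, Q (k.1 x) = Q x) ∧
      ∀ h : isomGroup B, (∀ x, Q (h.1 x) = Q x) → par (k * h) = par h := by
  induction hk using Subgroup.closure_induction with
  | mem g hg =>
    obtain ⟨u, v, hu, hv, rfl⟩ := hg
    refine ⟨fun x => ?_, fun h hh => ?_⟩
    · rw [Subgroup.coe_mul, LinearEquiv.mul_apply, rf_mem hpol hu, rf_mem hpol hv]
    · have h1 := par_flip hN hpol (hA := hA) hv hh
      have hh' : ∀ x, Q ((rf hA Q v * h).1 x) = Q x := fun x => by
        rw [Subgroup.coe_mul, LinearEquiv.mul_apply, rf_mem hpol hv, hh]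
      have h2 := par_flip hN hpol (hA := hA) hu hh'
      rw [← mul_assoc] at h2
      omega
  | one => simp
  | mul x y _ _ hx hy =>
    refine ⟨fun z => by rw [Subgroup.coe_mul, LinearEquiv.mul_apply, hx.1, hy.1], fun h hh => ?_⟩
    rw [mul_assoc, hx.2 _ fun z => by rw [Subgroup.coe_mul, LinearEquiv.mul_apply, hy.1, hh],
      hy.2 h hh]
  | inv x _ hx =>
    have hinv : ∀ z, Q ((x⁻¹).1 z) = Q z := fun z => by
      conv_rhs => rw [← inv_apply_apply x z, hx.1]
    refine ⟨hinv, fun h hh => ?_⟩
    have := hx.2 (x⁻¹ * h) fun z => by rw [Subgroup.coe_mul, LinearEquiv.mul_apply, hinv, hh]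
    rw [mul_inv_cancel_left] at this
    exact this.symm

include hN hpol in
theorem par_evenWords {k : isomGroup B} (hk : k ∈ evenWords hA Q) : par k = 0 := by
  have h := (evenWords_spec hN hpol hk).2 1 fun _ => rfl
  rw [mul_one] at h
  rw [h, par]
  have e : ((1 : isomGroup B).1 : V →ₗ[F] V) - LinearMap.id = 0 := by
    ext x; simp
  rw [e, LinearMap.range_zero, finrank_bot]

include hN hpol in
theorem par_evenWords_rf {k : isomGroup B} (hk : k ∈ evenWords hA Q) {u : V} (hu : Q u ≠ 0) :
    par (k * rf hA Q u) = 1 := by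
  rw [(evenWords_spec hN hpol hk).2 _ (rf_mem hpol hu)]
  have h := par_flip hN hpol (hA := hA) hu (h := 1) fun _ => rfl
  rw [mul_one] at h
  have h0 := par_evenWords hN hpol (hA := hA) (k := 1) (one_mem _)
  omega

end CfsgLib.Classical.SiegelOver
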