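import Cfsg.Agent.Lib.Classical.SiegelOver.Basic

/-!
# Irreducible subgroups containing a Siegel element over every vector of a perpendicular space
-/

set_option autoImplicit false
set_option linter.unusedSectionVars false

open Module

namespace CfsgLib.Classical.SiegelOver

variable {F : Type*} [Field F] [CharP F 2] {V : Type*} [AddCommGroup V] [Module F V]
  {B : V →ₗ[F] V →ₗ[F] F} {hA : B.IsAlt} {L : Subgroup (isomGroup B)} {a : V}

/-- `L` is irreducible and contains a Siegel element at `a` over every `w ⊥ a`. -/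
structure Setting (hA : B.IsAlt) (L : Subgroup (isomGroup B)) (a : V) : Prop where
  nd : B.Nondegenerate
  irr : ∀ W : Submodule F V, (∀ g ∈ L, ∀ w ∈ W, g.1 w ∈ W) → W = ⊥ ∨ W = ⊤
  ne : a ≠ 0
  siegel : ∀ w, B a w = 0 → ∃ c, sg hA a w c ∈ L
  dim : 4 ≤ finrank F V

/-- The multiples of the images of `a`. -/
def Orb (L : Subgroup (isomGroup B)) (a p : V) : Prop :=
  ∃ g ∈ L, ∃ t : F, t ≠ 0 ∧ p = t • g.1 a

/-- No transvection at `a` lies in `L`. -/
def NoTv (hA : B.IsAlt) (L : Subgroup (isomGroup B)) (a : V) : Prop :=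
  ∀ c, tv hA a c ∈ L → c = 0

theorem orb_self (L : Subgroup (isomGroup B)) (a : V) : Orb L a a :=
  ⟨1, one_mem L, 1, one_ne_zero, by simp⟩

theorem Orb.smul {p : V} (h : Orb L a p) {t : F} (ht : t ≠ 0) : Orb L a (t • p) := by
  obtain ⟨g, hg, s, hs, rfl⟩ := h
  exact ⟨g, hg, t * s, mul_ne_zero ht hs, smul_smul ..⟩

theorem Orb.map {p : V} (h : Orb L a p) {g : isomGroup B} (hg : g ∈ L) : Orb L a (g.1 p) := by
  obtain ⟨g', hg', s, hs, rfl⟩ := h
  exact ⟨g * g', mul_mem hg hg', s, hs, by simp⟩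

theorem conj_mem {g x : isomGroup B} (hg : g ∈ L) (hx : x ∈ L) : g * x * g⁻¹ ∈ L :=
  mul_mem (mul_mem hg hx) (inv_mem hg)

theorem inv_apply_apply (g : isomGroup B) (x : V) : g.1 ((g⁻¹).1 x) = x :=
  g.1.apply_symm_apply x

theorem Orb.ne_zero {p : V} (S : Setting hA L a) (h : Orb L a p) : p ≠ 0 := by
  obtain ⟨g, -, t, ht, rfl⟩ := h
  exact smul_ne_zero ht fun e => S.ne (g.1.map_eq_zero_iff.1 e)

theorem Orb.siegel {p w : V} (S : Setting hA L a) (h : Orb L a p) (hw : B p w = 0) :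
    ∃ c, sg hA p w c ∈ L := by
  obtain ⟨g, hg, t, ht, rfl⟩ := h
  have e : B a ((g⁻¹).1 (t • w)) = 0 := by
    have h1 := g.2 a ((g⁻¹).1 (t • w))
    rw [inv_apply_apply] at h1
    rw [← h1, map_smul]
    rw [map_smul, LinearMap.smul_apply, smul_eq_mul, mul_eq_zero] at hw
    simp [hw.resolve_left ht]
  obtain ⟨c, hc⟩ := S.siegel _ e
  refine ⟨c / (t * t), ?_⟩
  have hw' : B (g.1 a) w = 0 := by
    rw [map_smul, LinearMap.smul_apply, smul_eq_mul, mul_eq_zero] at hw
    exact hw.resolve_left ht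
  rw [sg_smul_left t hw', mul_div_cancel₀ _ (mul_ne_zero ht ht)]
  have := conj_mem hg hc
  rwa [sg_conj, inv_apply_apply] at this

theorem Orb.exists_tv {p : V} (h : Orb L a p) {c : F} (hc : tv hA a c ∈ L) (hc0 : c ≠ 0) :
    ∃ d, d ≠ 0 ∧ tv hA p d ∈ L := by
  obtain ⟨g, hg, t, ht, rfl⟩ := h
  refine ⟨c / (t * t), div_ne_zero hc0 (mul_ne_zero ht ht), ?_⟩
  rw [tv_smul, mul_div_cancel₀ _ (mul_ne_zero ht ht), ← conj_tv hA g a c]
  exact conj_mem hg hc

theorem Orb.full {p : V} (h : Orb L a p) (hp : ∀ c, tv hA p c ∈ L) (c : F) : tv hA a c ∈ L := by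
  obtain ⟨g, hg, t, ht, rfl⟩ := h
  have := conj_mem (inv_mem hg) (hp (c / (t * t)))
  rwa [conj_tv, map_smul, tv_smul, mul_div_cancel₀ _ (mul_ne_zero ht ht),
    show (g⁻¹).1 (g.1 a) = a from g.1.symm_apply_apply a] at this

theorem Orb.noTv {p : V} (h : Orb L a p) (hN : NoTv hA L a) : NoTv hA L p := by
  intro c hc
  obtain ⟨g, hg, t, ht, rfl⟩ := h
  have := conj_mem (inv_mem hg) hc
  rw [conj_tv, map_smul, tv_smul, show (g⁻¹).1 (g.1 a) = a from g.1.symm_apply_apply a] at this
  exact (mul_eq_zero.1 (hN _ this)).resolve_left (mul_ne_zero ht ht)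

/-- The images of `a` span. -/
theorem exists_opposite (S : Setting hA L a) {p : V} (hp : p ≠ 0) :
    ∃ r, Orb L a r ∧ B p r = 1 := by
  by_contra! hall
  have hperp : ∀ r, Orb L a r → B p r = 0 := fun r hr => by
    by_contra hne
    exact hall _ (hr.smul (inv_ne_zero hne)) (by simp [hne])
  have h := S.irr (Submodule.span F {r | Orb L a r}) fun g hg w hw => by
    induction hw using Submodule.span_induction with
    | mem r hr => exact Submodule.subset_span (hr.map hg)
    | zero => simp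
    | add x y _ _ hx hy => rw [map_add]; exact add_mem hx hy
    | smul c x _ hx => rw [map_smul]; exact Submodule.smul_mem _ _ hx
  rcases h with h | h
  · exact S.ne ((Submodule.eq_bot_iff _).1 h a (Submodule.subset_span (orb_self L a)))
  · obtain ⟨v, hv⟩ := alt_exists_partner S.nd.1 hp
    have hle : Submodule.span F {r | Orb L a r} ≤ LinearMap.ker (B p) :=
      Submodule.span_le.2 fun r hr => hperp r hr
    rw [h] at hle
    have : B p v = 0 := hle (Submodule.mem_top (x := v))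
    exact one_ne_zero (hv.symm.trans this)

theorem exists_functional (S : Setting hA L a) {p r : V} (hp : p ≠ 0)
    (hi : ∀ t : F, r ≠ t • p) (β : F) : ∃ v, B p v = 0 ∧ B r v = β := by
  obtain ⟨b, hb⟩ := alt_exists_partner S.nd.1 hp
  by_contra! hall
  refine hi (B r b) (sub_eq_zero.1 (S.nd.1 _ fun x => ?_))
  have e : B r (x - B p x • b) = 0 := by
    by_contra hne
    refine hall ((β / B r (x - B p x • b)) • (x - B p x • b)) ?_ ?_
    · simp [hb]
    · rw [map_smul, smul_eq_mul, div_mul_cancel₀ _ hne]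
  simp only [map_sub, map_smul, smul_eq_mul, LinearMap.sub_apply, LinearMap.smul_apply] at e ⊢
  linear_combination e

end CfsgLib.Classical.SiegelOver
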