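import Cfsg.Agent.Lib.Classical.SiegelOver.Main
import Cfsg.Agent.Lib.Classical.SympModels
import Cfsg.Agent.Lib.SymMax.IndexSix

/-!
# Dimension four over the field with two elements
-/

set_option autoImplicit false
set_option linter.unusedSectionVars false

open Module QuadraticMap

namespace CfsgLib.Classical.SiegelOver

variable {F : Type*} [Field F] [CharP F 2] [Fintype F] {V : Type*} [AddCommGroup V] [Module F V]
  [FiniteDimensional F V] {B : V →ₗ[F] V →ₗ[F] F} {hA : B.IsAlt} {L : Subgroup (isomGroup B)}
  {a p b r : V}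

theorem card_two_cases (h2 : Fintype.card F = 2) (x : F) : x = 0 ∨ x = 1 := by
  classical
  by_contra! h
  have h3 : ({0, 1, x} : Finset F).card ≤ Fintype.card F := Finset.card_le_univ _
  rw [Finset.card_insert_of_notMem (by simp [h.1.symm]), Finset.card_pair h.2.symm, h2] at h3
  omega

/-- In the middle of a four dimensional space two vectors with zero pairing are dependent. -/
theorem Pair.mid_dep (P : Pair hA L a p b) (hd : finrank F V = 4) {x y : V}
    (hx : B p x = 0) (hx' : B b x = 0) (hy : B p y = 0) (hy' : B b y = 0) (hx0 : x ≠ 0)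
    (h : B x y = 0) : ∃ t : F, y = t • x := by
  obtain ⟨v, hv, hv', hvx⟩ := P.exists_mid_partner hx hx' hx0
  have hxv : B x v = 1 := by rw [symm2 hA, hvx]
  have hpb : B b p = 1 := P.symm.one
  have li : LinearIndependent F ![p, b, x, v] := by
    rw [Fintype.linearIndependent_iff]
    intro c hc
    simp only [Fin.sum_univ_four, Matrix.cons_val_zero, Matrix.cons_val_one, Matrix.cons_val] at hc
    have e1 := congrArg (B p) hc
    have e2 := congrArg (B b) hc
    have e3 := congrArg (B x) hc
    have e4 := congrArg (B v) hc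
    simp [hA p, hA b, hA x, hA v, P.one, hpb, hxv, hvx, hx, hx', hv, hv', symm2 hA x p,
      symm2 hA x b, symm2 hA v p, symm2 hA v b] at e1 e2 e3 e4
    intro i; fin_cases i <;> assumption
  have hsp := li.span_eq_top_of_card_eq_finrank (by rw [hd]; rfl)
  have hmem : y ∈ Submodule.span F (Set.range ![p, b, x, v]) := hsp ▸ Submodule.mem_top
  obtain ⟨c, hc⟩ := (Submodule.mem_span_range_iff_exists_fun F).1 hmem
  simp only [Fin.sum_univ_four, Matrix.cons_val_zero, Matrix.cons_val_one, Matrix.cons_val] at hc
  rw [← hc] at hy hy' h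
  simp [hA p, hA b, hA x, P.one, hpb, hxv, hx, hx', hv, hv', symm2 hA x p, symm2 hA x b] at hy hy' h
  exact ⟨c 2, by rw [← hc, hy, hy', h]; simp⟩

/-- The two cosets are the whole orthogonal group. -/
theorem Pair.mem_twoCosets_two (P : Pair hA L a p b) (h2 : Fintype.card F = 2)
    (hd : finrank F V = 4) {g : isomGroup B} (hg : ∀ x, P.form (g.1 x) = P.form x) :
    g ∈ P.twoCosets := by
  have hF := card_two_cases h2
  have hS : P.swap ∈ P.twoCosets := Or.inr (by rw [P.swap_sq]; exact one_mem _)
  have hG : ∀ {k : isomGroup B}, k ∈ P.gens → k ∈ P.twoCosets := fun hk => Or.inl hk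
  have hR : ∀ {u : V}, P.form u ≠ 0 → rf hA P.form u ∈ P.twoCosets := fun hu =>
    Or.inr (P.rf_mem_coset hu)
  have hf2 : ∀ x, P.form x ≠ 0 → P.form x = 1 := fun x hx => (hF _).resolve_left hx
  -- it is enough to bring back both points, so that the middle is preserved
  have fix : ∀ g : isomGroup B, (∀ x, P.form (g.1 x) = P.form x) → g.1 p = p → g.1 b = b →
      g ∈ P.twoCosets := by
    intro g hg hp hb
    have hmid : ∀ x, B p x = 0 → B b x = 0 → B p (g.1 x) = 0 ∧ B b (g.1 x) = 0 := fun x h h' =>
      ⟨by have := g.2 p x; rwa [hp, h] at this, by have := g.2 b x; rwa [hb, h'] at this⟩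
    obtain ⟨u, hu, hu', huf⟩ := P.surj 1
    rw [← P.form_mid hu hu'] at huf
    have hu0 : u ≠ 0 := fun e => by rw [e, map_zero] at huf; exact zero_ne_one huf
    obtain ⟨k, hk, hku, hkp, hkb⟩ : ∃ k ∈ P.twoCosets, (k * g).1 u = u ∧ k.1 p = p ∧ k.1 b = b := by
      by_cases e : g.1 u = u
      · exact ⟨1, one_mem _, by rw [one_mul, e], rfl, rfl⟩
      obtain ⟨hw, hw'⟩ := hmid u hu hu'
      have hB : B (g.1 u) u = 1 := by
        refine (hF _).resolve_left fun h0 => e ?_
        obtain ⟨t, ht⟩ := P.mid_dep hd hu hu' hw hw' hu0 (by rw [symm2 hA, h0])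
        rcases hF t with rfl | rfl
        · exfalso
          rw [zero_smul] at ht
          exact hu0 (g.1.map_eq_zero_iff.1 ht)
        · rwa [one_smul] at ht
      have hdf : P.form (g.1 u + u) = 1 := by
        rw [P.form_add, hg, hB, huf, CharTwo.add_self_eq_zero, zero_add]
      refine ⟨rf hA P.form (g.1 u + u), hR (by rw [hdf]; exact one_ne_zero), ?_, ?_, ?_⟩
      · rw [Subgroup.coe_mul, LinearEquiv.mul_apply, rf, tv_apply, hdf, map_add (B (g.1 u)),
          hA (g.1 u), hB, inv_one, zero_add, one_mul, one_smul, ← add_assoc, add_self_vec F,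
          zero_add]
      · rw [rf, tv_apply, map_add (B p), hw, hu]; simp
      · rw [rf, tv_apply, map_add (B b), hw', hu']; simp
    suffices k * g ∈ P.twoCosets by simpa using mul_mem (inv_mem hk) this
    set g' := k * g with hg'
    have hp' : g'.1 p = p := by rw [hg', Subgroup.coe_mul, LinearEquiv.mul_apply, hp, hkp]
    have hb' : g'.1 b = b := by rw [hg', Subgroup.coe_mul, LinearEquiv.mul_apply, hb, hkb]
    have ext4 : ∀ h : isomGroup B, h.1 p = p → h.1 b = b → h.1 u = u → ∀ v, B p v = 0 →
        B b v = 0 → B u v = 1 → h.1 v = v → h = 1 := by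
      intro h e1 e2 e3 v hv hv' huv e4
      refine Subtype.ext (LinearEquiv.ext fun x => ?_)
      set m := mid B p b x
      obtain ⟨t, ht⟩ := P.mid_dep hd hu hu' (y := m + B u m • v)
        (by rw [map_add, map_smul, hv, smul_zero, add_zero]; exact P.mid_left x)
        (by rw [map_add, map_smul, hv', smul_zero, add_zero]; exact P.mid_right x) hu0
        (by rw [map_add, map_smul, huv, smul_eq_mul, mul_one, CharTwo.add_self_eq_zero])
      have hm : m = t • u + B u m • v := by
        rw [← ht, add_assoc, add_self_vec F, add_zero]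
      rw [mid_decomp (B := B) (p := p) (b := b) x, show mid B p b x = m from rfl, hm]
      simp [e1, e2, e3, e4]
    obtain ⟨v, hv, hv', hvu⟩ := P.exists_mid_partner hu hu' hu0
    have huv : B u v = 1 := by rw [symm2 hA, hvu]
    have hgv1 : B p (g'.1 v) = 0 := by have := g'.2 p v; rwa [hp', hv] at this
    have hgv2 : B b (g'.1 v) = 0 := by have := g'.2 b v; rwa [hb', hv'] at this
    obtain ⟨t, ht⟩ := P.mid_dep hd hu hu' (y := g'.1 v + v) (by rw [map_add, hgv1, hv, add_zero])
      (by rw [map_add, hgv2, hv', add_zero]) hu0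
      (by have := g'.2 u v; rw [hku, huv] at this; rw [map_add, this, huv, CharTwo.add_self_eq_zero])
    rcases hF t with rfl | rfl
    · rw [zero_smul] at ht
      rw [ext4 g' hp' hb' hku v hv hv' huv (vec_eq_of_add_eq_zero F ht)]
      exact one_mem _
    · rw [one_smul] at ht
      have hru : ∀ x, (rf hA P.form u).1 x = x + B x u • u := fun x => by
        rw [rf, tv_apply, huf, inv_one, one_mul]
      have h1 : rf hA P.form u * g' = 1 := by
        refine ext4 _ ?_ ?_ ?_ v hv hv' huv ?_
        · rw [Subgroup.coe_mul, LinearEquiv.mul_apply, hp', hru, hu, zero_smul, add_zero]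
        · rw [Subgroup.coe_mul, LinearEquiv.mul_apply, hb', hru, hu', zero_smul, add_zero]
        · rw [Subgroup.coe_mul, LinearEquiv.mul_apply, hku, hru, hA u, zero_smul, add_zero]
        · have e : g'.1 v = v + u := by rw [← ht, add_left_comm, add_self_vec F, add_zero]
          rw [Subgroup.coe_mul, LinearEquiv.mul_apply, e, hru, map_add, LinearMap.add_apply, hvu,
            hA u, add_zero, one_smul, add_assoc, add_self_vec F, add_zero]
      rw [show g' = (rf hA P.form u)⁻¹ from eq_inv_of_mul_eq_one_right h1]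
      exact inv_mem (hR (by rw [huf]; exact one_ne_zero))
  -- bring back the first point
  obtain ⟨k, hk, hkp⟩ : ∃ k ∈ P.twoCosets, (k * g).1 p = p := by
    have opp : ∀ s, P.form s = 0 → B p s = 1 → ∃ k ∈ P.twoCosets, k.1 s = p := by
      intro s hs hps
      have hdec := mid_decomp (B := B) (p := p) (b := b) s
      rw [hps, one_smul] at hdec
      set m := mid B p b s
      have hc : P.form m = B b s := by
        have h := hs
        rw [hdec, P.form_add, P.form_add, P.form_smul, P.form_left, P.form_right] at h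
        simp [P.symm.one, P.mid_right s, symm2 hA m p, P.mid_left s, m] at h
        exact CharTwo.add_eq_zero.1 h
      refine ⟨P.swap * sg hA p m (P.form m),
        mul_mem hS (hG (P.sg_left_mem (P.mid_left s) (P.mid_right s))), ?_⟩
      have e : s = (sg hA p m (P.form m)).1 b := by
        rw [sg_apply_partner (P.mid_left s) P.one (P.mid_right s), hc, ← hdec]
      have hi : (sg hA p m (P.form m)).1 s = b := by
        rw [e, ← LinearEquiv.mul_apply, ← Subgroup.coe_mul]
        nth_rw 1 [← sg_inv (P.mid_left s) (P.form m)]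
        rw [inv_mul_cancel]; rfl
      rw [Subgroup.coe_mul, LinearEquiv.mul_apply, hi, P.swap_right]
    set s := g.1 p with hs
    have hs0 : P.form s = 0 := by rw [hs, hg, P.form_left]
    have hsne : s ≠ 0 := fun e => P.hp.ne_zero P.set (g.1.map_eq_zero_iff.1 e)
    rcases hF (B p s) with h0 | h1
    swap
    · obtain ⟨k, hk, e⟩ := opp s hs0 h1
      exact ⟨k, hk, e⟩
    have hdec := mid_decomp (B := B) (p := p) (b := b) s
    rw [h0, zero_smul, zero_add] at hdec
    by_cases hm : mid B p b s = 0
    · rw [hm, zero_add] at hdec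
      rcases hF (B b s) with e | e
      · rw [e, zero_smul] at hdec; exact absurd hdec hsne
      · rw [e, one_smul] at hdec
        exact ⟨1, one_mem _, by rw [one_mul, ← hs, hdec]⟩
    -- make the pairing one
    obtain ⟨z, hz, hz', hne⟩ : ∃ z, B p z = 0 ∧ B b z = 0 ∧
        B p ((sg hA b z (P.form z)).1 s) = 1 := by
      have calc1 : ∀ z, B p z = 0 → B b z = 0 → B p ((sg hA b z (P.form z)).1 s) =
          B (mid B p b s) z + B b s * P.form z := by
        intro z hz hz'
        conv_lhs => rw [hdec]
        rw [map_add, map_smul, sg_apply_perp hz' (P.mid_right s),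
          sg_apply_partner hz' P.symm.one hz]
        simp [P.mid_left, hA p, hz, P.one]
      obtain ⟨v, hv, hv', hvm⟩ := P.exists_mid_partner (P.mid_left s) (P.mid_right s) hm
      by_cases e : B b s * P.form v = 0
      · exact ⟨v, hv, hv', by rw [calc1 v hv hv', e, symm2 hA _ v, hvm, add_zero]⟩
      · have ev := hf2 v (right_ne_zero_of_mul e)
        have eb := (hF (B b s)).resolve_left (left_ne_zero_of_mul e)
        have hmf : P.form (mid B p b s) = 0 := by
          have h := hs0
          rw [hdec, P.form_add, P.form_smul, P.form_left, map_smul, symm2 hA _ p, P.mid_left,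
            mul_zero, smul_zero, add_zero, add_zero] at h
          exact h
        refine ⟨mid B p b s + v, by rw [map_add, P.mid_left, hv, add_zero],
          by rw [map_add, P.mid_right, hv', add_zero], ?_⟩
        rw [calc1 _ (by rw [map_add, P.mid_left, hv, add_zero])
          (by rw [map_add, P.mid_right, hv', add_zero]), map_add, hA, zero_add, symm2 hA _ v, hvm,
          eb, P.form_add, hmf, ev, symm2 hA _ v, hvm]
        linear_combination two_F (F := F)
    obtain ⟨k, hk, e⟩ := opp _ (by rw [P.preserves (P.gens_le (P.sg_right_mem hz hz')), hs0]) hne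
    exact ⟨k * sg hA b z (P.form z), mul_mem hk (hG (P.sg_right_mem hz hz')), e⟩
  suffices k * g ∈ P.twoCosets by simpa using mul_mem (inv_mem hk) this
  have hpres : ∀ k ∈ P.twoCosets, ∀ x, P.form (k.1 x) = P.form x := by
    intro k hk x
    rcases hk with h | h
    · exact P.preserves (P.gens_le h) x
    · have e : k = k * P.swap * P.swap := by rw [mul_assoc, P.swap_sq, mul_one]
      rw [e, Subgroup.coe_mul, LinearEquiv.mul_apply, P.preserves (P.gens_le h)]
      exact rf_mem P.polar_form (by rw [P.form_sum]; exact one_ne_zero) x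
  set g' := k * g with hg'
  have hg'Q : ∀ x, P.form (g'.1 x) = P.form x := fun x => by
    rw [hg', Subgroup.coe_mul, LinearEquiv.mul_apply, hpres k hk, hg]
  -- bring back the second point
  have hdec := mid_decomp (B := B) (p := p) (b := b) (g'.1 b)
  have hpb : B p (g'.1 b) = 1 := by
    have := g'.2 p b
    rwa [hkp, P.one] at this
  rw [hpb, one_smul] at hdec
  set m := mid B p b (g'.1 b)
  have hc : P.form m = B b (g'.1 b) := by
    have h := hg'Q b
    rw [hdec, P.form_add, P.form_add, P.form_smul, P.form_left, P.form_right] at h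
    simp [P.symm.one, P.mid_right, symm2 hA m p, P.mid_left, m] at h
    exact CharTwo.add_eq_zero.1 h
  have hsm : sg hA p m (P.form m) ∈ P.twoCosets :=
    hG (P.sg_left_mem (P.mid_left (g'.1 b)) (P.mid_right (g'.1 b)))
  have e : g'.1 b = (sg hA p m (P.form m)).1 b := by
    rw [sg_apply_partner (P.mid_left _) P.one (P.mid_right _), hc, ← hdec]
  suffices sg hA p m (P.form m) * g' ∈ P.twoCosets by simpa using mul_mem (inv_mem hsm) this
  refine fix _ (fun x => ?_) ?_ ?_
  · rw [Subgroup.coe_mul, LinearEquiv.mul_apply, hpres _ hsm, hg'Q]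
  · rw [Subgroup.coe_mul, LinearEquiv.mul_apply, hkp, sg_apply_self (P.mid_left _)]
  · rw [Subgroup.coe_mul, LinearEquiv.mul_apply, e, ← LinearEquiv.mul_apply, ← Subgroup.coe_mul]
    nth_rw 1 [← sg_inv (P.mid_left _) (P.form m)]
    rw [inv_mul_cancel]; rfl

/-- A pair of points without the Siegel element between them. -/
theorem exists_bad (h2 : Fintype.card F = 2) (S : Setting hA L a) (h : ¬ EdgeOK hA L a) :
    ∃ p r, Edge L a p r ∧ tv hA p 1 * tv hA r 1 ∈ L ∧ sg hA p r (1 : F) ∈ L := by
  simp only [EdgeOK, not_forall] at h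
  obtain ⟨p, r, he, t, ht⟩ := h
  rcases card_two_cases h2 t with rfl | rfl
  · exact absurd (by rw [zero_smul, sg_zero_zero]; exact one_mem L) ht
  rw [one_smul] at ht
  obtain ⟨c, hc⟩ := he.1.siegel S he.2.2.1
  have hrp : B r p = 0 := by rw [symm2 hA, he.2.2.1]
  obtain ⟨d, hd⟩ := he.2.1.siegel S hrp
  rcases card_two_cases h2 c with rfl | rfl
  · exact absurd hc ht
  rcases card_two_cases h2 d with rfl | rfl
  · exact absurd (by rwa [← sg_symm hrp]) ht
  exact ⟨p, r, he, he.prod_mem (t := 1) (by rwa [one_smul]) (by rwa [one_smul]), hc⟩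

/-- All non-zero vectors are images of `a`. -/
theorem orb_of_bad (h2 : Fintype.card F = 2) (S : Setting hA L a) (he : Edge L a p r)
    (hm : tv hA p 1 * tv hA r 1 ∈ L) (hs : sg hA p r (1 : F) ∈ L) {x : V} (hx : x ≠ 0) :
    Orb L a x := by
  have hF := card_two_cases h2
  obtain ⟨b, hb, hpb⟩ := exists_opposite S (he.1.ne_zero S)
  have hbp : B b p = 1 := by rw [symm2 hA, hpb]
  -- two vectors differing by the first point
  have two : ∃ c, Orb L a c ∧ Orb L a (c + p) ∧ B p c = 1 := by
    have e1 : (tv hA p 1 * tv hA r 1).1 b = b + p + B b r • r := by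
      rw [Subgroup.coe_mul, LinearEquiv.mul_apply, tv_apply, tv_apply]
      simp [symm2 hA r p, he.2.2.1, hbp]
      abel
    have e2 : (sg hA p r (1 : F)).1 b = b + r + (1 + B b r) • p := by
      rw [sg_apply he.2.2.1, hbp]
      module
    rcases hF (B b r) with h0 | h1
    · refine ⟨b, hb, ?_, hpb⟩
      have := hb.map hm
      rwa [e1, h0, zero_smul, add_zero] at this
    · refine ⟨b + r, ?_, ?_, by rw [map_add, hpb, he.2.2.1, add_zero]⟩
      · have := hb.map hs
        rwa [e2, h1, CharTwo.add_self_eq_zero, zero_smul, add_zero] at this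
      · have := hb.map hm
        rwa [e1, h1, one_smul, add_right_comm] at this
  obtain ⟨c, hc, hc', hpc⟩ := two
  have off : ∀ x, B p x = 1 → Orb L a x := by
    intro x hx
    have hw : B p (x + c) = 0 := by rw [map_add, hx, hpc, CharTwo.add_self_eq_zero]
    obtain ⟨d, hd⟩ := he.1.siegel S hw
    have g1 := hc.map hd
    have g2 := hc'.map hd
    rw [map_add, sg_apply_self hw] at g2
    have e : (sg hA p (x + c) d).1 c = x + (B c (x + c) + d) • p := by
      rw [sg_apply hw, symm2 hA c p, hpc]
      match_scalars <;> ring_nf <;> simp [two_F]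
    rw [e] at g1 g2
    rcases hF (B c (x + c) + d) with h | h
    · rwa [h, zero_smul, add_zero] at g1
    · rwa [h, one_smul, add_assoc, add_self_vec F, add_zero] at g2
  rcases hF (B p x) with h0 | h1
  swap
  · exact off x h1
  by_cases hxp : x = p
  · exact hxp ▸ he.1
  -- every point has such a pair
  obtain ⟨z, hz, hz'⟩ := exists_functional S hx (r := p) (fun t e => by
    rcases hF t with rfl | rfl
    · exact he.1.ne_zero S (by rw [e, zero_smul])
    · exact hxp (by rw [e, one_smul])) (1 : F)
  obtain ⟨z', hz1, hz2⟩ := exists_functional S (he.1.ne_zero S) (r := x) (fun t e => by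
    rcases hF t with rfl | rfl
    · exact hx (by rw [e, zero_smul])
    · exact hxp (by rw [e, one_smul])) (1 : F)
  have hz3 : B p (z + z') = 1 := by rw [map_add, hz', hz1, add_zero]
  have hzx : B (z + z') x = 1 := by rw [symm2 hA, map_add, hz, hz2, zero_add]
  obtain ⟨g, hg, s, hs0, e⟩ := off _ hz3
  obtain ⟨k, hk, s', hs0', e'⟩ := he.1
  rcases hF s with rfl | rfl
  · exact absurd rfl hs0
  rcases hF s' with rfl | rfl
  · exact absurd rfl hs0'
  rw [one_smul] at e e'
  -- transport to the new point
  set T := g * k⁻¹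
  have hT : T.1 p = z + z' := by
    rw [Subgroup.coe_mul, LinearEquiv.mul_apply, e', show (k⁻¹).1 (k.1 a) = a from
      k.1.symm_apply_apply a, ← e]
  have hTL : T ∈ L := mul_mem hg (inv_mem hk)
  have h := (off ((T⁻¹).1 x) ?_).map hTL
  · rwa [inv_apply_apply] at h
  · have := T.2 p ((T⁻¹).1 x)
    rw [inv_apply_apply, hT, hzx] at this
    exact this.symm

theorem card_of_bad (h2 : Fintype.card F = 2) (hd : finrank F V = 4) [Finite V]
    (S : Setting hA L a) (h : ¬ EdgeOK hA L a) : 120 ≤ Nat.card L := by
  classical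
  have hF := card_two_cases h2
  obtain ⟨p, r, he, hm, hs⟩ := exists_bad h2 S h
  have horb : ∀ x : V, x ≠ 0 → ∃ g ∈ L, g.1 p = x := by
    intro x hx
    obtain ⟨g, hg, s, hs0, e⟩ := orb_of_bad h2 S he hm hs hx
    obtain ⟨k, hk, s', hs0', e'⟩ := he.1
    rcases hF s with rfl | rfl
    · exact absurd rfl hs0
    rcases hF s' with rfl | rfl
    · exact absurd rfl hs0'
    rw [one_smul] at e e'
    refine ⟨g * k⁻¹, mul_mem hg (inv_mem hk), ?_⟩
    rw [Subgroup.coe_mul, LinearEquiv.mul_apply, e', show (k⁻¹).1 (k.1 a) = a from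
      k.1.symm_apply_apply a, e]
  choose g hgL hgp using horb
  obtain ⟨b, -, hpb⟩ := exists_opposite S (he.1.ne_zero S)
  set W := LinearMap.ker ((B p).prod (B b))
  have hW : ∀ w : W, B p w = 0 ∧ B b (w : V) = 0 := fun w => by
    simpa [W, Prod.ext_iff] using w.2
  choose f hf using fun w : W => he.1.siegel S (hW w).1
  let k : W × Bool → isomGroup B := fun y =>
    (if y.2 then tv hA p 1 * tv hA r 1 else 1) * sg hA p y.1 (f y.1)
  have hkL : ∀ y, k y ∈ L := fun y => mul_mem (by split_ifs; exacts [hm, one_mem L]) (hf y.1)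
  have he_p : ∀ y, (k y).1 p = p := fun y => by
    simp only [k, Subgroup.coe_mul, LinearEquiv.mul_apply, sg_apply_self (hW y.1).1]
    split_ifs
    · simp [hA p, he.2.2.1]
    · rfl
  have hkinj : Function.Injective k := by
    obtain ⟨v, hv, hrv⟩ := exists_functional S (he.1.ne_zero S) he.2.2.2 (1 : F)
    have onp : ∀ w : W, ∀ x : Bool, (k (w, x)).1 v = v + B v w • p + (if x then r else 0) := by
      intro w x
      simp only [k, Subgroup.coe_mul, LinearEquiv.mul_apply, sg_apply_perp (hW w).1 hv]
      cases x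
      · simp
      · simp [hA p, symm2 hA v p, hv, symm2 hA r p, he.2.2.1, symm2 hA v r, hrv]
    rintro ⟨w, x⟩ ⟨w', x'⟩ e
    have e1 := congrArg (fun t : isomGroup B => t.1 v) e
    simp only [onp] at e1
    obtain rfl : x = x' := by
      have key : ∀ s t : F, v + s • p + r ≠ v + t • p := fun s t h' => he.2.2.2 (s + t) (by
        rw [add_assoc, add_right_inj] at h'
        rw [add_smul, ← h', ← add_assoc, add_self_vec F, zero_add])
      cases x <;> cases x'
      · rfl
      · simp only [Bool.false_eq_true, if_false, if_true, add_zero] at e1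
        exact absurd e1.symm (key _ _)
      · simp only [Bool.false_eq_true, if_false, if_true, add_zero] at e1
        exact absurd e1 (key _ _)
      · rfl
    have e2 := congrArg (fun t : isomGroup B => t.1 b) (mul_left_cancel e)
    simp only [sg_apply_partner (hW _).1 hpb (hW _).2] at e2
    have e3 : ((w : V) + (w' : V)) + (f w + f w') • p = 0 := by
      rw [add_smul]
      linear_combination (norm := module) e2 + add_self_vec F ((w' : V) + f w' • p)
    have e4 : f w + f w' = 0 := by
      have := congrArg (B b) e3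
      simpa [(hW w).2, (hW w').2, symm2 hA b p, hpb] using this
    rw [e4, zero_smul, add_zero] at e3
    rw [show w = w' from Subtype.ext (vec_eq_of_add_eq_zero F e3)]
  have hV : Nat.card V = 16 := by
    rw [Module.natCard_eq_pow_finrank (K := F), Nat.card_eq_fintype_card, h2, hd]; rfl
  have hW2 : 4 ≤ Nat.card W := by
    have h1 := LinearMap.finrank_range_add_finrank_ker ((B p).prod (B b))
    have h3 : finrank F (LinearMap.range ((B p).prod (B b))) ≤ 2 :=
      (Submodule.finrank_le _).trans (by simp)
    rw [Module.natCard_eq_pow_finrank (K := F), Nat.card_eq_fintype_card, h2]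
    calc (4 : ℕ) = 2 ^ 2 := rfl
      _ ≤ 2 ^ finrank F W := Nat.pow_le_pow_right (by norm_num)
        (show 2 ≤ finrank F (LinearMap.ker ((B p).prod (B b))) by omega)
  let Φ : {x : V // x ≠ 0} × (W × Bool) → L :=
    fun y => ⟨g y.1 y.1.2 * k y.2, mul_mem (hgL _ _) (hkL _)⟩
  have hinj : Function.Injective Φ := by
    rintro ⟨⟨x, hx⟩, y⟩ ⟨⟨x', hx'⟩, y'⟩ e
    have e1 := congrArg Subtype.val e
    simp only [Φ] at e1
    obtain rfl : x = x' := by
      have := congrArg (fun t : isomGroup B => t.1 p) e1
      simpa [he_p, hgp] using this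
    rw [hkinj (mul_left_cancel e1)]
  have : Finite (isomGroup B) := Finite.of_injective (fun g => (g.1 : V → V)) fun g g' e =>
    Subtype.ext (LinearEquiv.ext (congrFun e))
  have h5 := Nat.card_le_card_of_injective Φ hinj
  have h15 : Nat.card {x : V // x ≠ 0} = 15 := by
    have := Fintype.ofFinite V
    rw [Nat.card_eq_fintype_card, Fintype.card_subtype_compl, Fintype.card_subtype_eq,
      ← Nat.card_eq_fintype_card, hV]
  rw [Nat.card_prod, Nat.card_prod, h15, Nat.card_eq_fintype_card (α := Bool), Fintype.card_bool] at h5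
  omega

theorem iso_perm_six (h2 : Fintype.card F = 2) (hd : finrank F V = 4) (hA : B.IsAlt)
    (hN : B.Nondegenerate) : Nonempty (isomGroup B ≃* Equiv.Perm (Fin 6)) := by
  classical
  obtain ⟨e⟩ := isom_alt_equiv_sp hA hN 2 hd
  obtain ⟨f, hf⟩ := exists_perm_to_sp (F := F) 3 le_rfl
  refine ⟨e.trans (MulEquiv.ofBijective f ((Nat.bijective_iff_injective_and_card f).2 ⟨hf, ?_⟩)).symm⟩
  rw [Nat.card_perm, Nat.card_fin, card_symplecticGroup, h2]
  rfl

/-- Proper subgroups of order at least 120. -/
theorem alt_or_perm_five {H : Subgroup (Equiv.Perm (Fin 6))} (hH : 120 ≤ Nat.card H) (hne : H ≠ ⊤) :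
    Nonempty (H ≃* alternatingGroup (Fin 6)) ∨ Nonempty (H ≃* Equiv.Perm (Fin 5)) := by
  classical
  have hmul := H.index_mul_card
  rw [Nat.card_perm, Nat.card_fin, show Nat.factorial 6 = 720 from rfl] at hmul
  have h6 : H.index ≤ 6 := by nlinarith
  have hc6 : Fintype.card (Fin 6) = 6 := rfl
  rcases CfsgLib.SymMax.IndexN.alt_le_or_faithful (by rw [hc6]; norm_num) H with h | h
  · left
    have h2 : (alternatingGroup (Fin 6)).index = 2 := alternatingGroup.index_eq_two
    have h3 := Subgroup.index_dvd_of_le h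
    rw [h2, Nat.dvd_prime Nat.prime_two] at h3
    rcases h3 with h3 | h3
    · exact absurd (Subgroup.index_eq_one.1 h3) hne
    · refine ⟨MulEquiv.subgroupCongr ?_⟩
      refine (Subgroup.eq_of_le_of_card_ge h ?_).symm
      have e := (alternatingGroup (Fin 6)).index_mul_card
      rw [h2, Nat.card_perm, Nat.card_fin, show Nat.factorial 6 = 720 from rfl] at e
      rw [h3] at hmul
      omega
  · right
    have h7 := Nat.card_le_card_of_injective _ ((MonoidHom.ker_eq_bot_iff _).1 h)
    rw [Nat.card_perm, Nat.card_perm, Nat.card_fin] at h7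
    have h8 : H.index = 6 := by
      refine le_antisymm h6 ?_
      by_contra h9
      have : (Nat.card (Equiv.Perm (Fin 6) ⧸ H)).factorial ≤ Nat.factorial 5 :=
        Nat.factorial_le (by rw [← Subgroup.index_eq_card]; omega)
      rw [show Nat.factorial 5 = 120 from rfl] at this
      rw [show Nat.factorial 6 = 720 from rfl] at h7
      omega
    obtain ⟨φ, -, hall⟩ := CfsgLib.SymMax.IndexSix.classify hc6
    have hstab : ∀ x : Fin 6,
        Nonempty (MulAction.stabilizer (Equiv.Perm (Fin 6)) x ≃* Equiv.Perm (Fin 5)) := by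
      intro x
      obtain ⟨e⟩ := CfsgLib.SymMax.IndexSix.stabilizer_equiv x
      have hc : Fintype.card {y : Fin 6 // y ≠ x} = 5 := by simp [Fintype.card_subtype_compl]
      exact ⟨e.trans (Fintype.equivFinOfCardEq hc).permCongrHom⟩
    rcases hall H h8 with ⟨x, rfl⟩ | ⟨z, rfl⟩
    · exact hstab x
    · obtain ⟨e⟩ := hstab z
      refine ⟨((φ.subgroupMap _).trans (MulEquiv.subgroupCongr ?_)).trans e⟩
      exact Subgroup.map_comap_eq_self_of_surjective φ.surjective _

/-- The smallest case. -/
theorem small_case (h2 : Fintype.card F = 2) (hd : finrank F V = 4) [Finite V]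
    (S : Setting hA L a) :
    L = ⊤ ∨ (∃ Q : QuadraticForm F V, (∀ x y, polar (⇑Q) x y = B x y) ∧
      ((∀ g : isomGroup B, g ∈ L ↔ ∀ x, Q (g.1 x) = Q x) ∨
        ∀ g : isomGroup B, g ∈ L ↔ (∀ x, Q (g.1 x) = Q x) ∧ par g = 0)) ∨
      Nonempty (L ≃* alternatingGroup (Fin 6)) ∨ Nonempty (L ≃* Equiv.Perm (Fin 5)) := by
  rcases eq_top_or_noTv S with h | hN
  · exact Or.inl h
  by_cases hE : EdgeOK hA L a
  · obtain ⟨b, P⟩ := exists_pair S hN hE
    exact Or.inr (Or.inl ⟨P.form, P.polar_form,
      P.eq_orth_or_even fun g hg => P.mem_twoCosets_two h2 hd hg⟩)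
  by_cases hL : L = ⊤
  · exact Or.inl hL
  refine Or.inr (Or.inr ?_)
  obtain ⟨e⟩ := iso_perm_six h2 hd hA S.nd
  have hcard := card_of_bad h2 hd S hE
  let e' := L.equivMapOfInjective e.toMonoidHom e.injective
  rcases alt_or_perm_five (H := L.map e.toMonoidHom)
    (by rwa [← Nat.card_congr e'.toEquiv])
    (fun h => hL (Subgroup.map_injective e.injective
      (h.trans (Subgroup.map_top_of_surjective _ e.surjective).symm))) with f | f
  · exact Or.inl (f.map fun f => e'.trans f)
  · exact Or.inr (f.map fun f => e'.trans f)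

end CfsgLib.Classical.SiegelOver
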