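import Cfsg.Agent.Lib.Classical.SiegelOver.Small

/-!
# Two-subgroups normalised by the stabiliser of a vector consist of Siegel elements
-/

set_option autoImplicit false
set_option linter.unusedSectionVars false

open Module

namespace CfsgLib.Classical.SiegelOver

variable {F : Type*} [Field F] [CharP F 2] [Fintype F] {V : Type*} [AddCommGroup V] [Module F V]
  [FiniteDimensional F V] {B : V →ₗ[F] V →ₗ[F] F} {hA : B.IsAlt} {a b : V}
  {N : Subgroup (isomGroup B)}

theorem exists_perp_ne (hN : B.Nondegenerate) {w : V} (hab : B a b = 1)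
    (hw : ∀ t : F, w ≠ t • a) : ∃ x, B a x = 0 ∧ B w x ≠ 0 := by
  by_contra! hall
  refine hw (B w b) (sub_eq_zero.1 (hN.1 _ fun x => ?_))
  have e := hall (x - B a x • b) (by simp [hab])
  simp only [map_sub, map_smul, smul_eq_mul, LinearMap.sub_apply, LinearMap.smul_apply] at e ⊢
  linear_combination e

/-- The stabiliser of `a` moves any vector of `a⊥` outside the line to any other. -/
theorem stab_transitive (hA : B.IsAlt) (hN : B.Nondegenerate) (hab : B a b = 1) {w w' : V}
    (hw : B a w = 0) (hw' : B a w' = 0) (hi : ∀ t : F, w ≠ t • a) (hi' : ∀ t : F, w' ≠ t • a) :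
    ∃ g : isomGroup B, g.1 a = a ∧ g.1 w = w' := by
  have step : ∀ u v : V, B a u = 0 → B a v = 0 → B u v ≠ 0 →
      ∃ g : isomGroup B, g.1 a = a ∧ g.1 u = v := fun u v hu hv h =>
    ⟨tv hA (v - u) (B u v)⁻¹, by simp [map_sub, hu, hv], tv_move hA u v h⟩
  by_cases h : B w w' = 0
  swap
  · exact step w w' hw hw' h
  obtain ⟨z, hz, hz1, hz2⟩ : ∃ z, B a z = 0 ∧ B w z ≠ 0 ∧ B z w' ≠ 0 := by
    obtain ⟨x, hx, hx'⟩ := exists_perp_ne hN hab hi
    obtain ⟨y, hy, hy'⟩ := exists_perp_ne hN hab hi'
    rw [symm2 hA w' y] at hy'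
    by_cases e1 : B x w' = 0
    · by_cases e2 : B w y = 0
      · refine ⟨x + y, by rw [map_add, hx, hy, add_zero], ?_, ?_⟩
        · rwa [map_add, e2, add_zero]
        · rwa [map_add, LinearMap.add_apply, e1, zero_add]
      · exact ⟨y, hy, e2, hy'⟩
    · exact ⟨x, hx, hx', e1⟩
  obtain ⟨g1, a1, b1⟩ := step w z hw hz hz1
  obtain ⟨g2, a2, b2⟩ := step z w' hz hw' hz2
  exact ⟨g2 * g1, by simp [a1, a2], by simp [b1, b2]⟩

theorem mid_self_left (hA : B.IsAlt) (hab : B a b = 1) (x : V) : B a (mid B a b x) = 0 := by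
  simp [mid, hab, hA a, CharTwo.add_self_eq_zero]

theorem mid_self_right (hA : B.IsAlt) (hab : B a b = 1) (x : V) : B b (mid B a b x) = 0 := by
  have : B b a = 1 := by rw [symm2 hA, hab]
  simp [mid, this, hA b, CharTwo.add_self_eq_zero]

theorem finrank_perp_pair (hA : B.IsAlt) (hab : B a b = 1) :
    finrank F (LinearMap.ker ((B a).prod (B b))) + 2 = finrank F V := by
  have hba : B b a = 1 := by rw [symm2 hA, hab]
  have h := LinearMap.finrank_range_add_finrank_ker ((B a).prod (B b))
  have : LinearMap.range ((B a).prod (B b)) = ⊤ := by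
    rw [LinearMap.range_eq_top]
    rintro ⟨s, t⟩
    exact ⟨s • b + t • a, by simp [hab, hba, hA a, hA b]⟩
  rw [this, finrank_top, Module.finrank_prod, Module.finrank_self] at h
  omega

/-- Elements of a two-group normalised by the stabiliser act trivially on `a⊥/⟨a⟩`. -/
theorem trivial_on_quotient (hA : B.IsAlt) (hN : B.Nondegenerate) (hd : 4 ≤ finrank F V)
    (hab : B a b = 1) (h2 : IsPGroup 2 N) (ha : ∀ g ∈ N, g.1 a = a)
    (hnorm : ∀ k : isomGroup B, k.1 a = a → ∀ g ∈ N, k * g * k⁻¹ ∈ N) {w : V} (hw : B a w = 0)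
    {g : isomGroup B} (hg : g ∈ N) : ∃ t : F, g.1 w = w + t • a := by
  classical
  have hba : B b a = 1 := by rw [symm2 hA, hab]
  have : Finite V := Module.finite_of_finite F
  set M := LinearMap.ker ((B a).prod (B b))
  have hM : ∀ x : M, B a x = 0 ∧ B b (x : V) = 0 := fun x => by
    simpa [M, Prod.ext_iff] using x.2
  have hpres : ∀ g ∈ N, ∀ x, B a x = 0 → B a (g.1 x) = 0 := fun g hg x hx => by
    have := g.2 a x
    rwa [ha g hg, hx] at this
  -- the action on the middle space
  let act : N → M → M := fun g x => ⟨g.1.1 x + B b (g.1.1 x) • a, by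
    simp [M, hpres _ g.2 _ (hM x).1, hA a, hba, CharTwo.add_self_eq_zero]⟩
  let : SMul N M := ⟨act⟩
  let : MulAction N M :=
    { one_smul := fun x => Subtype.ext (show (1 : V ≃ₗ[F] V) x + B b ((1 : V ≃ₗ[F] V) x) • a = x by
        simp [(hM x).2])
      mul_smul := fun g h x => by
        refine Subtype.ext ?_
        show (g.1.1 * h.1.1) x + B b ((g.1.1 * h.1.1) x) • a =
          g.1.1 (h.1.1 x + B b (h.1.1 x) • a) + B b (g.1.1 (h.1.1 x + B b (h.1.1 x) • a)) • a
        simp only [LinearEquiv.mul_apply, map_add, map_smul, ha _ g.2, hba, smul_eq_mul, mul_one,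
          add_smul]
        rw [add_add_add_comm, add_self_vec F (B b (h.1.1 x) • a), add_zero] }
  have hdim : 0 < finrank F M := by
    have := finrank_perp_pair hA hab
    show 0 < finrank F (LinearMap.ker ((B a).prod (B b)))
    omega
  have hdvd : 2 ∣ Nat.card M := by
    rw [Module.natCard_eq_pow_finrank (K := F)]
    refine dvd_pow ?_ hdim.ne'
    rw [Nat.card_eq_fintype_card]
    obtain ⟨k, -, e⟩ := FiniteField.card F 2
    rw [e]
    exact dvd_pow_self _ k.ne_zero
  obtain ⟨u, hu, hu0⟩ := h2.exists_fixed_point_of_prime_dvd_card_of_fixed_point M hdvd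
    (a := 0) (fun g => Subtype.ext (show g.1.1 (0 : V) + B b (g.1.1 (0 : V)) • a = 0 by simp))
  have hu1 : ∀ g ∈ N, ∃ t : F, g.1 (u : V) = u + t • a := fun g hg => by
    refine ⟨B b (g.1 u), ?_⟩
    have e : g.1 (u : V) + B b (g.1 u) • a = u := congrArg Subtype.val (hu ⟨g, hg⟩)
    rw [← eq_sub_iff_add_eq] at e
    conv_lhs => rw [e]
    rw [sub_eq_add_neg, ← neg_smul, CharTwo.neg_eq]
  have hui : ∀ t : F, (u : V) ≠ t • a := fun t e => by
    have := (hM u).2
    rw [e, map_smul, hba, smul_eq_mul, mul_one] at this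
    rw [this, zero_smul] at e
    exact hu0 (Subtype.ext e).symm
  by_cases hwi : ∃ t : F, w = t • a
  · obtain ⟨t, rfl⟩ := hwi
    exact ⟨0, by rw [map_smul, ha g hg, zero_smul, add_zero]⟩
  push Not at hwi
  obtain ⟨k, hka, hku⟩ := stab_transitive hA hN hab (hM u).1 hw hui hwi
  have hk' : (k⁻¹).1 a = a := by
    conv_lhs => rw [← hka]
    exact k.1.symm_apply_apply a
  obtain ⟨t, ht⟩ := hu1 _ (hnorm k⁻¹ hk' g hg)
  rw [inv_inv, Subgroup.coe_mul, Subgroup.coe_mul, LinearEquiv.mul_apply, LinearEquiv.mul_apply,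
    hku] at ht
  refine ⟨t, ?_⟩
  rw [← inv_apply_apply k (g.1 w), ht, map_add, map_smul, hku, hka]

/-- An element fixing `a` and `a⊥/⟨a⟩` is a Siegel element. -/
theorem eq_sg_of_trivial (hA : B.IsAlt) (hab : B a b = 1) {g : isomGroup B} (hga : g.1 a = a)
    (ht : ∀ w, B a w = 0 → ∃ t : F, g.1 w = w + t • a) :
    ∃ u c, B a u = 0 ∧ B b u = 0 ∧ g = sg hA a u c := by
  have hba : B b a = 1 := by rw [symm2 hA, hab]
  set u := mid B a b (g.1 b)
  have hu := mid_self_left hA hab (g.1 b)
  have hu' := mid_self_right hA hab (g.1 b)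
  refine ⟨u, B b (g.1 b), hu, hu', ?_⟩
  have hgb : g.1 b = b + u + B b (g.1 b) • a := by
    have h1 : B a (g.1 b) = 1 := by
      have := g.2 a b
      rwa [hga, hab] at this
    have := mid_decomp (B := B) (p := a) (b := b) (g.1 b)
    rwa [h1, one_smul] at this
  refine Subtype.ext (LinearEquiv.ext fun x => ?_)
  set m := mid B a b x
  have hm : B a m = 0 := mid_self_left hA hab x
  have hm' : B b m = 0 := mid_self_right hA hab x
  obtain ⟨t, hgm⟩ := ht m hm
  have htv : t = B m u := by
    have e := g.2 b m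
    rw [hgb, hgm, hm'] at e
    simp only [map_add, map_smul, LinearMap.add_apply, LinearMap.smul_apply, hm', hA a, hm,
      smul_eq_mul, hba, symm2 hA u a, show B a u = 0 from hu, mul_one, mul_zero, add_zero,
      zero_add, symm2 hA u m] at e
    exact CharTwo.add_eq_zero.1 (by linear_combination e)
  have key : ∀ s t' : F, g.1 (s • b + m + t' • a) =
      (sg hA a u (B b (g.1 b))).1 (s • b + m + t' • a) := fun s t' => by
    rw [map_add, map_add, map_smul, map_smul, map_add, map_add, map_smul, map_smul, hga,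
      sg_apply_self hu, sg_apply_partner hu hab hu', sg_apply_perp hu hm, hgm, htv]
    rw [← hgb]
  have e := key (B a x) (B b x)
  rwa [← mid_decomp] at e

/-- A large two-group without transvections gives Siegel elements over all of `a⊥`. -/
theorem siegel_of_card (hA : B.IsAlt) (hN : B.Nondegenerate) (hd : 4 ≤ finrank F V)
    (hab : B a b = 1) (h2 : IsPGroup 2 N) (ha : ∀ g ∈ N, g.1 a = a)
    (hnorm : ∀ k : isomGroup B, k.1 a = a → ∀ g ∈ N, k * g * k⁻¹ ∈ N) {X : Subgroup (isomGroup B)}
    (hXN : X ≤ N) (hcard : Nat.card X = Fintype.card F ^ (finrank F V - 2))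
    (htv : ∀ c : F, tv hA a c ∈ X → c = 0) {w : V} (hw : B a w = 0) :
    ∃ c, sg hA a w c ∈ X := by
  classical
  have hba : B b a = 1 := by rw [symm2 hA, hab]
  have : Finite V := Module.finite_of_finite F
  choose u c hu hu' he using fun x : X => eq_sg_of_trivial hA hab (ha x.1 (hXN x.2))
    fun w hw => trivial_on_quotient hA hN hd hab h2 ha hnorm hw (hXN x.2)
  set M := LinearMap.ker ((B a).prod (B b))
  let f : X → M := fun x => ⟨u x, by simp [M, hu x, hu' x]⟩
  have hinj : Function.Injective f := by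
    intro x y e
    have e' : u x = u y := congrArg Subtype.val e
    have hxy := mul_mem x.2 y.2
    rw [he x, he y, e', sg_mul (hu y) (hu y), add_self_vec F, hA, add_zero, sg_zero_right] at hxy
    refine Subtype.ext ?_
    rw [he x, he y, e', CharTwo.add_eq_zero.1 (htv _ hxy)]
  have hbij : Function.Bijective f := by
    refine (Nat.bijective_iff_injective_and_card f).2 ⟨hinj, ?_⟩
    rw [hcard, Module.natCard_eq_pow_finrank (K := F), Nat.card_eq_fintype_card]
    have := finrank_perp_pair hA hab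
    congr 1
    show finrank F V - 2 = finrank F (LinearMap.ker ((B a).prod (B b)))
    omega
  obtain ⟨x, hx⟩ := hbij.2 ⟨mid B a b w, by
    simp [M, mid_self_left hA hab, mid_self_right hA hab]⟩
  have hux : u x = mid B a b w := congrArg Subtype.val hx
  refine ⟨c x, ?_⟩
  have hwd := mid_decomp (B := B) (p := a) (b := b) w
  rw [hw, zero_smul, zero_add] at hwd
  rw [hwd, sg_shift (mid_self_left hA hab w), ← hux, ← he x]
  exact x.2

end CfsgLib.Classical.SiegelOver
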