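import Cfsg.Agent.Lib.Classical.SiegelOver.Refl

/-!
# The subgroup is the orthogonal group or its even part
-/

set_option autoImplicit false
set_option linter.unusedSectionVars false

open Module QuadraticMap CfsgLib.Orth

namespace CfsgLib.Classical.SiegelOver

variable {F : Type*} [Field F] [CharP F 2] [Fintype F] {V : Type*} [AddCommGroup V] [Module F V]
  [FiniteDimensional F V] {B : V →ₗ[F] V →ₗ[F] F} {hA : B.IsAlt} {L : Subgroup (isomGroup B)}
  {a p b : V}

namespace Pair

variable (P : Pair hA L a p b)

/-- The Siegel elements at the two points of the pair. -/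
noncomputable def gens : Subgroup (isomGroup B) :=
  Subgroup.closure {g | ∃ w, B p w = 0 ∧ B b w = 0 ∧
    (g = sg hA p w (P.form w) ∨ g = sg hA b w (P.form w))}

/-- The reflection exchanging the pair. -/
noncomputable def swap : isomGroup B := rf hA P.form (p + b)

theorem gens_le : P.gens ≤ L := by
  refine (Subgroup.closure_le _).2 ?_
  rintro g ⟨w, hw, hw', rfl | rfl⟩
  · rw [P.form_mid hw hw']; exact phi_spec P.set P.hp hw
  · rw [P.form_mid hw hw', ← (P.quad hw hw').2]; exact phi_spec P.set P.hb hw'

theorem sg_left_mem {w : V} (hw : B p w = 0) (hw' : B b w = 0) :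
    sg hA p w (P.form w) ∈ P.gens :=
  Subgroup.subset_closure ⟨w, hw, hw', Or.inl rfl⟩

theorem sg_right_mem {w : V} (hw : B p w = 0) (hw' : B b w = 0) :
    sg hA b w (P.form w) ∈ P.gens :=
  Subgroup.subset_closure ⟨w, hw, hw', Or.inr rfl⟩

theorem form_add (x y : V) : P.form (x + y) = P.form x + P.form y + B x y :=
  quad_add (Q := P.form) P.polar_form x y

theorem form_smul (t : F) (x : V) : P.form (t • x) = t * t * P.form x := by
  rw [QuadraticMap.map_smul, smul_eq_mul]

theorem form_sum : P.form (p + b) = 1 := by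
  rw [P.form_add, P.form_left, P.form_right, P.one]; simp

theorem swap_left : P.swap.1 p = b := by
  rw [swap, rf, tv_apply, P.form_sum, map_add, hA p, P.one, inv_one, zero_add, one_mul, one_smul,
    ← add_assoc, add_self_vec F, zero_add]

theorem swap_right : P.swap.1 b = p := by
  rw [swap, rf, tv_apply, P.form_sum, map_add, hA b, P.symm.one, inv_one, add_zero, one_mul,
    one_smul, add_comm p, ← add_assoc, add_self_vec F, zero_add]

theorem swap_mid {w : V} (hw : B p w = 0) (hw' : B b w = 0) : P.swap.1 w = w := by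
  rw [swap, rf, tv_apply, P.form_sum, map_add, symm2 hA w p, symm2 hA w b, hw, hw']
  simp

theorem swap_sq : P.swap * P.swap = 1 := by
  rw [swap, rf, tv_mul, CharTwo.add_self_eq_zero, tv_zero]

theorem swap_inv : P.swap⁻¹ = P.swap := inv_eq_of_mul_eq_one_left P.swap_sq

theorem swap_conj {g : isomGroup B} (hg : g ∈ P.gens) : P.swap * g * P.swap ∈ P.gens := by
  induction hg using Subgroup.closure_induction with
  | mem g hg =>
    obtain ⟨w, hw, hw', rfl | rfl⟩ := hg
    · have e := sg_conj (hA := hA) P.swap p w (P.form w)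
      rw [P.swap_inv, P.swap_left, P.swap_mid hw hw'] at e
      rw [e]; exact P.sg_right_mem hw hw'
    · have e := sg_conj (hA := hA) P.swap b w (P.form w)
      rw [P.swap_inv, P.swap_right, P.swap_mid hw hw'] at e
      rw [e]; exact P.sg_left_mem hw hw'
  | one => rw [mul_one, P.swap_sq]; exact one_mem _
  | mul x y _ _ hx hy =>
    have e : P.swap * (x * y) * P.swap = P.swap * x * (P.swap * P.swap) * y * P.swap := by
      rw [P.swap_sq]; group
    rw [e]
    simpa [mul_assoc] using mul_mem hx hy
  | inv x _ hx =>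
    have := inv_mem hx
    rwa [mul_inv_rev, mul_inv_rev, P.swap_inv, ← mul_assoc] at this

theorem exists_gens_move {u : V} (hu : P.form u = 1) : ∃ k ∈ P.gens, k.1 (p + b) = u := by
  have main : ∀ u, P.form u = 1 → B p u ≠ 0 → ∃ k ∈ P.gens, k.1 (p + b) = u := by
    intro u hu hd
    obtain ⟨w, hw, hw', hwf⟩ := P.surj (B p u + 1)
    rw [← P.form_mid hw hw'] at hwf
    set z := (B p u)⁻¹ • (mid B p b u + w) with hz
    have z1 : B p z = 0 := by rw [hz, map_smul, map_add, P.mid_left, hw, add_zero, smul_zero]
    have z2 : B b z = 0 := by rw [hz, map_smul, map_add, P.mid_right, hw', add_zero, smul_zero]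
    refine ⟨sg hA p z (P.form z) * sg hA b w (P.form w),
      mul_mem (P.sg_left_mem z1 z2) (P.sg_right_mem hw hw'), ?_⟩
    set k := sg hA p z (P.form z) * sg hA b w (P.form w)
    have e1 : ∃ γ : F, k.1 (p + b) = B p u • b + mid B p b u + γ • p := by
      refine ⟨1 + B w z + B p u * P.form z, ?_⟩
      rw [Subgroup.coe_mul, LinearEquiv.mul_apply, map_add (sg hA b w _).1, sg_apply_self hw',
        sg_apply_partner hw' P.symm.one hw, hwf, add_assoc (p + w),
        show (B p u + 1) • b + b = B p u • b by match_scalars; linear_combination two_F (F := F)]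
      rw [map_add (sg hA p z _).1, map_add (sg hA p z _).1, map_smul (sg hA p z _).1, sg_apply_self z1, sg_apply_perp z1 hw,
        sg_apply_partner z1 P.one z2, smul_add, smul_add, smul_smul,
        mul_inv_cancel₀ hd, one_smul]
      match_scalars <;> ring_nf <;> simp [two_F]
    obtain ⟨γ, e1⟩ := e1
    have e2 : P.form (k.1 (p + b)) = 1 := by
      rw [P.preserves (P.gens_le (mul_mem (P.sg_left_mem z1 z2) (P.sg_right_mem hw hw'))),
        P.form_sum]
    have hdec := mid_decomp (B := B) (p := p) (b := b) u
    rw [e1, P.form_add, P.form_smul, P.form_left, mul_zero, add_zero] at e2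
    have hu' := hu
    rw [hdec, P.form_add, P.form_smul, P.form_left, mul_zero, add_zero] at hu'
    simp only [map_smul, map_add, LinearMap.add_apply, LinearMap.smul_apply, smul_eq_mul,
      P.symm.one, symm2 hA (mid B p b u) p, P.mid_left, mul_one, add_zero] at e2 hu'
    have e3 : γ * B p u = B b u * B p u := by linear_combination e2 - hu'
    rw [e1, mul_right_cancel₀ hd e3, ← hdec]
  by_cases hd : B p u = 0
  swap
  · exact main u hu hd
  obtain ⟨z, hz, hz', hne⟩ : ∃ z, B p z = 0 ∧ B b z = 0 ∧
      B p ((sg hA b z (P.form z)).1 u) ≠ 0 := by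
    have hdec := mid_decomp (B := B) (p := p) (b := b) u
    have hm1 := P.mid_left u
    have hm2 := P.mid_right u
    rw [hd, zero_smul, zero_add] at hdec
    have hm : P.form (mid B p b u) = 1 := by
      have h := hu
      rw [hdec, P.form_add, P.form_smul, P.form_left, mul_zero, map_smul, symm2 hA _ p, hm1,
        smul_zero, add_zero, add_zero] at h
      exact h
    have calc1 : ∀ z, B p z = 0 → B b z = 0 → B p ((sg hA b z (P.form z)).1 u) =
        B (mid B p b u) z + B b u * P.form z := by
      intro z hz hz'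
      conv_lhs => rw [hdec]
      rw [map_add, map_smul, sg_apply_perp hz' hm2, sg_apply_partner hz' P.symm.one hz]
      simp [hm1, hA p, hz, P.one]
    by_cases hg : B b u = 0
    · obtain ⟨v, hv, hv', hvm⟩ := P.exists_mid_partner hm1 hm2 (by rintro e; simp [e] at hm)
      refine ⟨v, hv, hv', ?_⟩
      rw [calc1 v hv hv', hg, symm2 hA _ v, hvm]
      simp
    · refine ⟨mid B p b u, hm1, hm2, ?_⟩
      rw [calc1 _ hm1 hm2, hA, hm]
      simpa using hg
  have hy := P.sg_right_mem hz hz'
  obtain ⟨k, hk, hk'⟩ := main _ (by rw [P.preserves (P.gens_le hy), hu]) hne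
  refine ⟨sg hA b z (P.form z) * k, mul_mem hy hk, ?_⟩
  rw [Subgroup.coe_mul, LinearEquiv.mul_apply, hk', ← LinearEquiv.mul_apply, ← Subgroup.coe_mul]
  conv_lhs => arg 1; arg 1; arg 1; rw [← sg_inv hz' (P.form z)]
  simp

theorem rf_mem_coset {u : V} (hu : P.form u ≠ 0) : rf hA P.form u * P.swap ∈ P.gens := by
  obtain ⟨s, hs⟩ := surjective_frobenius F 2 (P.form u)⁻¹
  rw [frobenius_def, pow_two] at hs
  have hs1 : P.form (s • u) = 1 := by rw [P.form_smul, hs, inv_mul_cancel₀ hu]
  obtain ⟨k, hk, hk'⟩ := P.exists_gens_move hs1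
  have e : rf hA P.form u = k * P.swap * k⁻¹ := by
    rw [swap, rf, rf, conj_tv, hk', tv_smul, P.form_sum, inv_one, mul_one, hs]
  rw [e, mul_assoc, mul_assoc]
  exact mul_mem hk (by rw [← mul_assoc]; exact P.swap_conj (inv_mem hk))

/-- The union of the two cosets. -/
noncomputable def twoCosets : Subgroup (isomGroup B) where
  carrier := {g | g ∈ P.gens ∨ g * P.swap ∈ P.gens}
  one_mem' := Or.inl (one_mem _)
  mul_mem' := by
    rintro g h (hg | hg) (hh | hh)
    · exact Or.inl (mul_mem hg hh)
    · exact Or.inr (by rw [mul_assoc]; exact mul_mem hg hh)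
    · right
      have := mul_mem hg (P.swap_conj hh)
      rwa [← mul_assoc, ← mul_assoc, mul_assoc g, P.swap_sq, mul_one] at this
    · left
      have := mul_mem hg (P.swap_conj hh)
      rwa [← mul_assoc, ← mul_assoc, mul_assoc g, P.swap_sq, mul_one, mul_assoc, mul_assoc h,
        P.swap_sq, mul_one] at this
  inv_mem' := by
    rintro g (hg | hg)
    · exact Or.inl (inv_mem hg)
    · right
      have := P.swap_conj (inv_mem hg)
      rwa [mul_inv_rev, P.swap_inv, ← mul_assoc, P.swap_sq, one_mul] at this

theorem mem_twoCosets (h4 : (∃ e : F, e ≠ 0 ∧ e ≠ 1) ∨ finrank F V ≠ 4) {g : isomGroup B}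
    (hg : ∀ x, P.form (g.1 x) = P.form x) : g ∈ P.twoCosets := by
  have hQ : (QuadraticMap.polarBilin P.form).Nondegenerate := by
    have e : QuadraticMap.polarBilin P.form = B := LinearMap.ext fun x => LinearMap.ext fun y => by
      rw [QuadraticMap.polarBilin_apply_apply, P.polar_form]
    rw [e]; exact P.set.nd
  have key : ∀ h : orthGroup P.form, ∀ g : isomGroup B, g.1 = h.1 → g ∈ P.twoCosets := by
    intro h
    have hh : h ∈ reflGroup P.form := by rw [reflGroup_eq_top hQ h4]; exact Subgroup.mem_top h
    induction hh using Subgroup.closure_induction with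
    | mem x hx =>
      obtain ⟨u, rfl⟩ := hx
      intro g hg
      have e : g = rf hA P.form u := Subtype.ext (LinearEquiv.ext fun x => by
        rw [hg, refl_apply, rf, tv_apply, P.polar_form, symm2 hA u x, sub_eq_add_neg, ← neg_smul, CharTwo.neg_eq])
      by_cases hu : P.form u = 0
      · rw [e, rf, hu, inv_zero, tv_zero]; exact one_mem _
      · exact e ▸ Or.inr (P.rf_mem_coset hu)
    | one =>
      intro g hg
      rw [show g = 1 from Subtype.ext hg]; exact one_mem _
    | mul x y _ _ hx hy =>
      intro g hg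
      let x' : isomGroup B := ⟨x.1, fun u v => by rw [← P.polar_form, polar_isom, P.polar_form]⟩
      let y' : isomGroup B := ⟨y.1, fun u v => by rw [← P.polar_form, polar_isom, P.polar_form]⟩
      rw [show g = x' * y' from Subtype.ext hg]
      exact mul_mem (hx x' rfl) (hy y' rfl)
    | inv x _ hx =>
      intro g hg
      have := hx g⁻¹ (by rw [Subgroup.coe_inv, hg, Subgroup.coe_inv, inv_inv])
      exact inv_inv g ▸ inv_mem this
  exact key ⟨g.1, hg⟩ g rfl

end Pair

end CfsgLib.Classical.SiegelOver
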